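import Cfsg.Agent.Lib.PSL2.Out
import Cfsg.Agent.Lib.PSL2Klein

/-!
An automorphism of order two of `PSL₂(q)` with non-trivial field part centralises a four group.
-/

set_option autoImplicit false
set_option linter.unusedSectionVars false

namespace CfsgLib.GW.Model

open Matrix CfsgLib.PSL2
open scoped MatrixGroups

variable {F : Type*} [Field F]

local notation "M2" => Matrix (Fin 2) (Fin 2) F
local notation "SL" => Matrix.SpecialLinearGroup (Fin 2) F
local notation "PSL" => Matrix.ProjectiveSpecialLinearGroup (Fin 2) F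

/-- The fixed field of an automorphism. -/
def fixField (e : F ≃+* F) : Subfield F := RingHom.eqLocusField e.toRingHom (RingHom.id F)

theorem mem_fixField {e : F ≃+* F} {x : F} : x ∈ fixField e ↔ e x = x := Iff.rfl

theorem fix_coe {e : F ≃+* F} (x : fixField e) : e (x : F) = x := x.2

theorem exists_anti {e : F ≃+* F} (h2 : (2 : F) ≠ 0) (he : ∀ x, e (e x) = x) (hne : e ≠ RingEquiv.refl F) :
    ∃ i : F, i ≠ 0 ∧ e i = -i := by
  obtain ⟨a, ha⟩ : ∃ a, e a ≠ a := by
    by_contra h
    push Not at h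
    exact hne (RingEquiv.ext h)
  exact ⟨a - e a, sub_ne_zero.mpr (Ne.symm ha), by rw [map_sub, he]; ring⟩

variable [Fintype F]

theorem exists_norm {e : F ≃+* F} (h2 : (2 : F) ≠ 0) (he : ∀ x, e (e x) = x) (hne : e ≠ RingEquiv.refl F)
    {r : F} (hr : e r = r) : ∃ s : F, s * e s = r := by
  classical
  obtain ⟨i, hi, hei⟩ := exists_anti h2 he hne
  haveI : Fintype (fixField e) := Fintype.ofFinite _
  have hc : e (i * i) = i * i := by rw [map_mul, hei]; ring
  set c : fixField e := ⟨i * i, hc⟩
  have hc0 : c ≠ 0 := fun h => mul_ne_zero hi hi (congrArg Subtype.val h)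
  have hchar : ringChar (fixField e) ≠ 2 := by
    intro h
    haveI : CharP (fixField e) 2 := ringChar.of_eq h
    exact h2 (congrArg Subtype.val (CharP.cast_eq_zero (fixField e) 2))
  obtain ⟨a, b, hab⟩ := FiniteField.exists_root_sum_quadratic
    (f := Polynomial.X ^ 2 - Polynomial.C (⟨r, hr⟩ : fixField e)) (g := Polynomial.C (-c) * Polynomial.X ^ 2)
    (Polynomial.degree_X_pow_sub_C (by norm_num) _)
    (Polynomial.degree_C_mul_X_pow 2 (neg_ne_zero.mpr hc0)) (FiniteField.odd_card_of_char_ne_two hchar)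
  simp at hab
  refine ⟨(a : F) + b * i, ?_⟩
  have h := congrArg Subtype.val hab
  push_cast at h
  rw [map_add, map_mul, fix_coe a, fix_coe b, hei]
  linear_combination h

theorem exists_sqrt_neg_one {e : F ≃+* F} (h2 : (2 : F) ≠ 0) (he : ∀ x, e (e x) = x)
    (hne : e ≠ RingEquiv.refl F) : ∃ j : F, j * j = -1 ∧ (e j = j ∨ e j = -j) := by
  classical
  obtain ⟨i, hi, hei⟩ := exists_anti h2 he hne
  haveI : Fintype (fixField e) := Fintype.ofFinite _
  have hcard : Fintype.card F = Fintype.card (fixField e) ^ 2 := by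
    have hbij : Function.Bijective fun z : fixField e × fixField e => (z.1 : F) + (z.2 : F) * i := by
      refine ⟨fun z w h => ?_, fun x => ?_⟩
      · have h' := congrArg e h
        simp only [map_add, map_mul, fix_coe, hei] at h'
        have e1 : (2 : F) * ((z.1 : F) - w.1) = 0 := by linear_combination h + h'
        have e2 : (2 : F) * (((z.2 : F) - w.2) * i) = 0 := by linear_combination h - h'
        refine Prod.ext (Subtype.ext (sub_eq_zero.mp ((mul_eq_zero.mp e1).resolve_left h2))) (Subtype.ext ?_)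
        exact sub_eq_zero.mp ((mul_eq_zero.mp ((mul_eq_zero.mp e2).resolve_left h2)).resolve_right hi)
      · refine ⟨(⟨(x + e x) / 2, ?_⟩, ⟨(x - e x) / 2 / i, ?_⟩), ?_⟩
        · rw [mem_fixField, map_div₀, map_add, he, map_ofNat, add_comm]
        · rw [mem_fixField, map_div₀, map_div₀, map_sub, he, hei, map_ofNat]
          field_simp
          ring
        · show (x + e x) / 2 + (x - e x) / 2 / i * i = x
          field_simp
          ring
    rw [← Fintype.card_congr (Equiv.ofBijective _ hbij), Fintype.card_prod, sq]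
  have hchar : ringChar (fixField e) ≠ 2 := by
    intro h
    haveI : CharP (fixField e) 2 := ringChar.of_eq h
    exact h2 (congrArg Subtype.val (CharP.cast_eq_zero (fixField e) 2))
  have hodd : Fintype.card (fixField e) % 2 = 1 := FiniteField.odd_card_of_char_ne_two hchar
  obtain ⟨j, hj⟩ : IsSquare (-1 : F) := FiniteField.isSquare_neg_one_iff.mpr (by
    rw [hcard, Nat.pow_mod]
    have := Nat.mod_lt (Fintype.card (fixField e)) (show 4 > 0 by norm_num)
    have h4 : Fintype.card (fixField e) % 4 = 1 ∨ Fintype.card (fixField e) % 4 = 3 := by omega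
    rcases h4 with h4 | h4 <;> rw [h4] <;> norm_num)
  refine ⟨j, hj.symm, ?_⟩
  have h : (e j - j) * (e j + j) = 0 := by
    have h1 := congrArg e hj
    rw [map_neg, map_one, map_mul] at h1
    linear_combination hj - h1
  rcases mul_eq_zero.mp h with h | h
  · exact Or.inl (sub_eq_zero.mp h)
  · exact Or.inr (eq_neg_of_add_eq_zero_left h)

/-- An invertible matrix `u` with `g u^e = u`. -/
theorem exists_hilbert {e : F ≃+* F} (he : ∀ x, e (e x) = x) (hne : e ≠ RingEquiv.refl F) {g : M2}
    (hg : g * g.map e = 1) : ∃ u : GL (Fin 2) F, g * u.1.map e = u.1 := by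
  obtain ⟨a, ha⟩ : ∃ a, e a ≠ a := by
    by_contra h
    push Not at h
    exact hne (RingEquiv.ext h)
  let σ : (Fin 2 → F) → (Fin 2 → F) := fun v => g *ᵥ (e ∘ v)
  have hee : ∀ v : Fin 2 → F, e ∘ (g *ᵥ v) = g.map e *ᵥ (e ∘ v) := fun v =>
    funext fun k => RingHom.map_mulVec e.toRingHom g v k
  have hσσ : ∀ v, σ (σ v) = v := fun v => by
    show g *ᵥ (e ∘ (g *ᵥ (e ∘ v))) = v
    rw [hee, Matrix.mulVec_mulVec, hg, Matrix.one_mulVec]
    exact funext fun k => he _
  have hadd : ∀ v w, σ (v + w) = σ v + σ w := fun v w => by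
    show g *ᵥ (e ∘ (v + w)) = _
    rw [show e ∘ (v + w) = e ∘ v + e ∘ w from funext fun k => map_add e _ _, Matrix.mulVec_add]
  have hsmul : ∀ (c : F) v, σ (c • v) = e c • σ v := fun c v => by
    show g *ᵥ (e ∘ (c • v)) = _
    rw [show e ∘ (c • v) = e c • (e ∘ v) from funext fun k => map_mul e _ _, Matrix.mulVec_smul]
  have hfix : ∀ v, σ (v + σ v) = v + σ v := fun v => by rw [hadd, hσσ, add_comm]
  have hspan : ∀ v : Fin 2 → F, ∃ (x y : Fin 2 → F) (c d : F), σ x = x ∧ σ y = y ∧ v = c • x + d • y := by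
    intro v
    have hd : e a - a ≠ 0 := sub_ne_zero.mpr ha
    refine ⟨v + σ v, a • v + σ (a • v), e a / (e a - a), -1 / (e a - a), hfix v, hfix _, funext fun k => ?_⟩
    rw [hsmul]
    simp only [Pi.add_apply, Pi.smul_apply, smul_eq_mul]
    field_simp
    ring
  let D : (Fin 2 → F) → (Fin 2 → F) → F := fun w x => w 0 * x 1 - w 1 * x 0
  obtain ⟨w, hw, hw0⟩ : ∃ w, σ w = w ∧ w ≠ 0 := by
    by_contra h
    push Not at h
    obtain ⟨x, y, c, d, hx, hy, hxy⟩ := hspan ![1, 0]
    rw [h x hx, h y hy, smul_zero, smul_zero, add_zero] at hxy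
    simpa using congrFun hxy 0
  obtain ⟨x, hx, hD⟩ : ∃ x, σ x = x ∧ D w x ≠ 0 := by
    by_contra h
    push Not at h
    have hall : ∀ v, D w v = 0 := fun v => by
      obtain ⟨x, y, c, d, hx, hy, rfl⟩ := hspan v
      have h1 := h x hx
      have h2 := h y hy
      simp only [D, Pi.add_apply, Pi.smul_apply, smul_eq_mul] at h1 h2 ⊢
      linear_combination c * h1 + d * h2
    refine hw0 (funext fun k => ?_)
    fin_cases k
    · simpa [D] using hall ![0, 1]
    · simpa [D] using hall ![1, 0]
  refine ⟨Matrix.GeneralLinearGroup.mkOfDetNeZero !![w 0, x 0; w 1, x 1] (by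
    rw [Matrix.det_fin_two_of]
    intro h
    exact hD (by simp only [D]; linear_combination h)), ?_⟩
  have hc : ∀ (v : Fin 2 → F) (k : Fin 2), σ v k = g k 0 * e (v 0) + g k 1 * e (v 1) := fun v k => by
    show (g *ᵥ (e ∘ v)) k = _
    simp [Matrix.mulVec, dotProduct, Fin.sum_univ_two]
  show g * (!![w 0, x 0; w 1, x 1] : M2).map e = !![w 0, x 0; w 1, x 1]
  ext k l
  fin_cases k <;> fin_cases l <;>
    simp [Matrix.mul_apply, Fin.sum_univ_two, ← hc, hw, hx]

variable (p : ℕ) [Fact p.Prime] [CharP F p]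

/-- An involutory automorphism with non-trivial field part centralises a four group. -/
theorem field_involution_klein (h2 : (2 : F) ≠ 0) {φ : MulAut PSL} (hφ : φ * φ = 1) (hf : fieldPart p φ ≠ 1) :
    ∃ U : Subgroup PSL, IsKleinFour U ∧ ∀ u ∈ U, φ u = u := by
  obtain ⟨g, e, hge⟩ := exists_diag_field p φ
  rw [fieldPart_eq p hge] at hf
  have hne : e ≠ RingEquiv.refl F := hf
  have he : ∀ x, e (e x) = x := fun x => by
    have h := congrArg (fieldPart p) hφ
    rw [map_mul, map_one, fieldPart_eq p hge] at h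
    exact RingEquiv.congr_fun h x
  have hee : e.trans e = RingEquiv.refl F := RingEquiv.ext he
  obtain ⟨-, r, hr⟩ := scalar_of_fix (g * GeneralLinearGroup.map e.toRingHom g) (RingEquiv.refl F) (by
    rw [fieldAut_refl, ← hφ, hge]
    conv_rhs => rw [mul_assoc, ← mul_assoc (fieldAut e), fieldAut_mul_diagAut, mul_assoc, ← fieldAut_trans, hee,
      fieldAut_refl, mul_one]
    rw [map_mul])
  have hr' : g.1 * g.1.map e = r • (1 : M2) := by
    rw [Units.val_mul] at hr
    rw [show r • (1 : M2) = Matrix.scalar (Fin 2) r by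
      ext i j; by_cases hij : i = j <;> simp [hij]]
    exact hr
  have hr0 : r ≠ 0 := by
    intro h0
    rw [h0, zero_smul] at hr'
    have h1 := congrArg Matrix.det hr'
    rw [Matrix.det_mul, Matrix.det_zero] at h1
    have hd : g.1.det ≠ 0 := ((Matrix.isUnit_iff_isUnit_det _).mp g.isUnit).ne_zero
    rcases mul_eq_zero.mp h1 with h | h
    · exact hd h
    · rw [show g.1.map e = e.toRingHom.mapMatrix g.1 from rfl, ← RingHom.map_det] at h
      exact hd (e.injective (h.trans (map_zero e).symm))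
  have hcomm : g.1.map e * g.1 = r • (1 : M2) := by
    have h1 : g.1 * ((r⁻¹) • g.1.map e) = 1 := by
      rw [Matrix.mul_smul, hr', smul_smul, inv_mul_cancel₀ hr0, one_smul]
    have h2 := mul_eq_one_comm.mp h1
    rw [Matrix.smul_mul] at h2
    calc g.1.map e * g.1 = r • (r⁻¹ • (g.1.map e * g.1)) := by rw [smul_smul, mul_inv_cancel₀ hr0, one_smul]
      _ = _ := by rw [h2]
  have her : e r = r := by
    have h1 := congrArg (fun A : M2 => A.map e) hr'
    simp only [Matrix.map_mul] at h1
    have hmm : (g.1.map e).map e = g.1 := by ext i j; simp [he]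
    rw [hmm, hcomm] at h1
    simpa using (congrFun (congrFun h1 0) 0).symm
  obtain ⟨s, hs⟩ := exists_norm h2 he hne her
  have hs0 : s ≠ 0 := fun h => hr0 (by rw [← hs, h, zero_mul])
  set g' : M2 := s⁻¹ • g.1 with hg'
  have hg1 : g' * g'.map e = 1 := by
    have : g'.map e = (e s)⁻¹ • g.1.map e := by ext i j; simp [hg', map_inv₀]
    rw [this, hg', Matrix.smul_mul, Matrix.mul_smul, hr', smul_smul, smul_smul, ← mul_inv, hs, inv_mul_cancel₀ hr0,
      one_smul]
  obtain ⟨u, hu⟩ := exists_hilbert he hne hg1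
  have hconj : φ = diagAut u * fieldAut e * diagAut u⁻¹ := by
    rw [mul_assoc, fieldAut_mul_diagAut, ← mul_assoc, ← map_mul, hge]
    congr 1
    have hsc : ∀ (a b : GL (Fin 2) F) (c : F), a.1 = c • b.1 → c ≠ 0 → diagAut a = diagAut b := by
      intro a b c hab hc
      have h1 : (b⁻¹ * a).1 = Matrix.scalar (Fin 2) c := by
        rw [Units.val_mul, hab, Matrix.mul_smul, ← Units.val_mul, inv_mul_cancel, Units.val_one]
        ext i j; by_cases hij : i = j <;> simp [hij]
      have := diagAut_scalar (b⁻¹ * a) c h1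
      rw [map_mul, map_inv, inv_mul_eq_one] at this
      exact this.symm
    refine hsc _ _ s ?_ hs0
    rw [Units.val_mul]
    have hv : (GeneralLinearGroup.map e.toRingHom u⁻¹).1 = (u⁻¹).1.map e := rfl
    rw [hv]
    calc g.1 = s • g' := by rw [hg', smul_smul, mul_inv_cancel₀ hs0, one_smul]
      _ = s • (g' * (u.1 * (u⁻¹).1).map e) := by
        rw [← Units.val_mul, mul_inv_cancel, Units.val_one, Matrix.map_one e (map_zero e) (map_one e), mul_one]
      _ = s • (u.1 * (u⁻¹).1.map e) := by rw [Matrix.map_mul, ← mul_assoc, hu]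
  obtain ⟨j, hj, hej⟩ := exists_sqrt_neg_one h2 he hne
  have hjne : j ≠ 0 := fun h => by rw [h, zero_mul] at hj; exact one_ne_zero (neg_eq_zero.mp hj.symm)
  let D : SL := ⟨!![j, 0; 0, -j], by rw [Matrix.det_fin_two_of]; linear_combination -hj⟩
  let Wm : SL := ⟨!![0, 1; -1, 0], by simp [Matrix.det_fin_two_of]⟩
  have hfixD : fieldAut e (mk D) = mk D := by
    rw [fieldAut_apply]
    rcases hej with h | h
    · congr 1
      refine Subtype.ext ?_
      show (D.1).map e = D.1
      ext a b; fin_cases a <;> fin_cases b <;> simp [D, h]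
    · rw [PSL2.mk_eq_mk]
      refine Or.inr ?_
      show D.1 = -(D.1.map e)
      ext a b; fin_cases a <;> fin_cases b <;> simp [D, h]
  have hfixW : fieldAut e (mk Wm) = mk Wm := by
    rw [fieldAut_apply]
    congr 1
    refine Subtype.ext ?_
    show (Wm.1).map e = Wm.1
    ext a b; fin_cases a <;> fin_cases b <;> simp [Wm]
  have hDt : (D : M2).trace = 0 := by simp [D, Matrix.trace_fin_two]
  have hWt : (Wm : M2).trace = 0 := by simp [Wm, Matrix.trace_fin_two]
  obtain ⟨hD1, hD2⟩ := (PSL2Klein.invol_iff h2).mpr hDt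
  obtain ⟨hW1, hW2⟩ := (PSL2Klein.invol_iff h2).mpr hWt
  have hanti : D * Wm = -(Wm * D) := by
    refine Subtype.ext ?_
    show D.1 * Wm.1 = -(Wm.1 * D.1)
    ext a b; fin_cases a <;> fin_cases b <;> simp [D, Wm, Matrix.mul_apply, Fin.sum_univ_two]
  have hDW : mk D * mk Wm = mk Wm * mk D := by
    rw [← map_mul, ← map_mul, PSL2.mk_eq_mk]
    refine Or.inr ?_
    rw [hanti]
    show (Wm.1 * D.1) = -(-(Wm * D) : SL).1
    exact (neg_neg _).symm
  have hne' : mk D ≠ mk Wm := by
    rw [Ne, PSL2.mk_eq_mk]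
    rintro (h | h) <;> have h' := congrFun (congrFun h 0) 1 <;> simp [D, Wm] at h'
  set U₀ := PSL2Klein.four (mk D) (mk Wm) hD2 hW2 hDW
  refine ⟨U₀.map (diagAut u).toMonoidHom, ?_, ?_⟩
  · haveI := PSL2Klein.four_klein hD2 hW2 hDW hD1 hW1 hne'
    exact ⟨(Subgroup.card_map_of_injective (f := (diagAut u).toMonoidHom) (diagAut u).injective).trans IsKleinFour.card_four,
      (Monoid.exponent_eq_of_mulEquiv (U₀.equivMapOfInjective (diagAut u).toMonoidHom
        (diagAut u).injective)).symm.trans IsKleinFour.exponent_two⟩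
  · rintro _ ⟨x, hx, rfl⟩
    show φ (diagAut u x) = diagAut u x
    rw [hconj, MulAut.mul_apply, MulAut.mul_apply, map_inv, MulAut.inv_apply_self]
    congr 1
    rcases hx with rfl | rfl | rfl | rfl
    · exact map_one _
    · exact hfixD
    · exact hfixW
    · rw [map_mul, hfixD, hfixW]

end CfsgLib.GW.Model
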