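import Cfsg.Agent.Lib.GW.Hyp
import Cfsg.Agent.Lib.GW.Model.Field
import Cfsg.Agent.Lib.PSL2Max.Pgl
import Cfsg.Agent.Lib.TwoCompFour.Basic
import Cfsg.Agent.S2119

/-!
A group with dihedral Sylow 2-subgroups and a component, acting on the model.

For `H` (in practice `↥H`, `H` a proper subgroup of a `GWHyp` group) with a normal perfect `L`, `W = C_H(L)`:
* `PSLFrame H L`: `ψ : H →* Aut PSL₂(q)` with kernel `W`, `L` onto the inner automorphisms, field parts of odd order;
* `SevenFrame H L`: `π : H →* A₇` surjective, kernel `W`, `L` onto `A₇`;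
* `exists_frame`, `GWHyp.exists_frame`: one of the two always exists.
-/

set_option autoImplicit false
set_option linter.unusedSectionVars false

namespace CfsgLib.GW

open Cfsg CfsgLib.DihedralFusion
open scoped MatrixGroups

universe u v

theorem GWDihedral.of_equiv {X : Type u} [Group X] [Finite X] {Y : Type v} [Group Y] (hX : GWDihedral X)
    (e : X ≃* Y) : GWDihedral Y := by
  haveI : Fact (Nat.Prime 2) := ⟨Nat.prime_two⟩
  obtain ⟨S, n, hn, ⟨f⟩⟩ := hX
  haveI : Finite Y := Finite.of_equiv X e.toEquiv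
  exact ⟨S.mapSurjective (f := e.toMonoidHom) e.surjective, n, hn,
    ⟨((S : Subgroup X).equivMapOfInjective e.toMonoidHom e.injective).symm.trans f⟩⟩

theorem GWDihedral.range {X : Type u} [Group X] [Finite X] {Y : Type v} [Group Y] (hX : GWDihedral X)
    (f : X →* Y) (hf : Odd (Nat.card f.ker)) : GWDihedral f.range :=
  (hX.quotient f.ker hf).of_equiv (QuotientGroup.quotientKerEquivRange f)

/-- Involutions commute lifted: a preimage of an element of the centraliser can be chosen in the centraliser. -/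
theorem exists_lift_commute {H : Type u} [Group H] [Finite H] {A : Type v} [Group A] (f : H →* A)
    (hodd : Odd (Nat.card f.ker)) {t x : H} (ht : t * t = 1) (hx : f x * f t = f t * f x) :
    ∃ w ∈ f.ker, x * w * t = t * (x * w) := by
  classical
  haveI : Fact (Nat.Prime 2) := ⟨Nat.prime_two⟩
  haveI := Fintype.ofFinite f.ker
  have ht' : t⁻¹ = t := inv_eq_of_mul_eq_one_left ht
  have hft : f t * f t = 1 := by rw [← map_mul, ht, map_one]
  let g : f.ker → f.ker := fun w => ⟨x⁻¹ * t * x * w * t, by
    rw [MonoidHom.mem_ker, map_mul, map_mul, map_mul, map_mul, map_inv, MonoidHom.mem_ker.mp w.2, mul_one,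
      mul_assoc, hx, ← mul_assoc, mul_assoc (f x)⁻¹, hft, mul_one, inv_mul_cancel]⟩
  have hg : Function.Involutive g := fun w => Subtype.ext (by
    show x⁻¹ * t * x * (x⁻¹ * t * x * w * t) * t = w
    calc x⁻¹ * t * x * (x⁻¹ * t * x * (w : H) * t) * t = x⁻¹ * (t * t) * x * w * (t * t) := by group
      _ = (w : H) := by rw [ht]; group)
  have hσ : (hg.toPerm g) ^ 2 ^ 1 = 1 := Equiv.ext fun w => by
    rw [pow_one, sq, Equiv.Perm.mul_apply]
    exact hg w
  have hcard : ¬ 2 ∣ Fintype.card f.ker := by
    rw [← Nat.card_eq_fintype_card, ← even_iff_two_dvd]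
    exact Nat.not_even_iff_odd.mpr hodd
  obtain ⟨w, hw⟩ := Equiv.Perm.exists_fixed_point_of_prime hcard hσ
  refine ⟨w, w.2, ?_⟩
  have h : x⁻¹ * t * x * (w : H) * t = w := congrArg Subtype.val hw
  calc x * w * t = x * (x⁻¹ * t * x * w * t) * t := by rw [h]
    _ = t * x * w * (t * t) := by group
    _ = t * (x * w) := by rw [ht, mul_one, mul_assoc]

/-- The order of an involution centraliser from that of its image. -/
theorem card_centralizer_lift {H : Type u} [Group H] [Finite H] {A : Type v} [Group A] (f : H →* A)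
    (hodd : Odd (Nat.card f.ker)) {t : H} (ht : t * t = 1) :
    Nat.card (Subgroup.centralizer ({t} : Set H)) =
      Nat.card (f.ker ⊓ Subgroup.centralizer ({t} : Set H) : Subgroup H) *
        Nat.card (f.range ⊓ Subgroup.centralizer ({f t} : Set A) : Subgroup A) := by
  set C := Subgroup.centralizer ({t} : Set H)
  have hmap : (f.comp C.subtype).range = f.range ⊓ Subgroup.centralizer ({f t} : Set A) := by
    rw [MonoidHom.range_comp, Subgroup.range_subtype]
    refine le_antisymm ?_ ?_
    · rintro _ ⟨x, hx, rfl⟩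
      exact ⟨⟨x, rfl⟩, Subgroup.mem_centralizer_singleton_iff.mpr
        (by rw [← map_mul, ← map_mul, Subgroup.mem_centralizer_singleton_iff.mp hx])⟩
    · rintro _ ⟨⟨x, rfl⟩, hx⟩
      obtain ⟨w, hw, hwt⟩ := exists_lift_commute f hodd ht (Subgroup.mem_centralizer_singleton_iff.mp hx)
      exact ⟨x * w, Subgroup.mem_centralizer_singleton_iff.mpr hwt,
        by rw [map_mul, MonoidHom.mem_ker.mp hw, mul_one]⟩
  have hker : (f.comp C.subtype).ker = (f.ker ⊓ C).subgroupOf C := by
    ext c
    simp [MonoidHom.mem_ker, Subgroup.mem_subgroupOf]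
  rw [← Nat.card_congr (Subgroup.subgroupOfEquivOfLe (inf_le_right : f.ker ⊓ C ≤ C)).toEquiv, ← hker, ← hmap,
    ← Nat.card_congr (QuotientGroup.quotientKerEquivRange (f.comp C.subtype)).toEquiv, mul_comm]
  exact Subgroup.card_eq_card_quotient_mul_card_subgroup _

variable (H : Type u) [Group H] [Finite H]

/-- `H` acts on `PSL₂(q)` through `L`. -/
structure PSLFrame (L : Subgroup H) where
  F : Type
  [field : Field F]
  [fintype : Fintype F]
  p : ℕ
  [fact : Fact p.Prime]
  [charP : CharP F p]
  odd : Odd (Fintype.card F)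
  three_lt : 3 < Fintype.card F
  ψ : H →* MulAut (Matrix.ProjectiveSpecialLinearGroup (Fin 2) F)
  ker_eq : ψ.ker = Subgroup.centralizer (L : Set H)
  map_L : L.map ψ = (MulAut.conj : Matrix.ProjectiveSpecialLinearGroup (Fin 2) F →* _).range
  field_odd : Odd (Nat.card ((CfsgLib.PSL2.fieldPart p).comp ψ).range)

attribute [instance] PSLFrame.field PSLFrame.fintype PSLFrame.fact PSLFrame.charP

/-- `H` acts on `A₇` through `L`. -/
structure SevenFrame (L : Subgroup H) where
  π : H →* alternatingGroup (Fin 7)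
  ker_eq : π.ker = Subgroup.centralizer (L : Set H)
  map_L : L.map π = ⊤

variable {H}

/-- The outer core centralises `L`. -/
theorem oddCore_le_centralizer {L : Subgroup H} [L.Normal] [Group.IsPerfect L] (hcore : oddCore L = Subgroup.center L) :
    oddCore H ≤ Subgroup.centralizer (L : Set H) := by
  intro x hx
  refine Subgroup.mem_centralizer_iff.mpr fun l hl => ?_
  set f : L →* L := (MulAut.conjNormal (H := L) x).toMonoidHom
  have hmem : ∀ a : L, f a * a⁻¹ ∈ Subgroup.center L := by
    intro a
    rw [← hcore]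
    have hN : ((oddCore H).comap L.subtype) ≤ oddCore L := CfsgLib.le_oddCore (CfsgLib.odd_card_oddCore.of_dvd_nat
      (Subgroup.card_dvd_of_injective (L.subtype.subgroupComap (oddCore H)) fun a b e =>
        Subtype.ext (Subtype.ext (congrArg (fun z : oddCore H => (z : H)) e))))
    refine hN ?_
    show ((f a * a⁻¹ : L) : H) ∈ oddCore H
    have e : ((f a * a⁻¹ : L) : H) = x * (a * x⁻¹ * (a : H)⁻¹) := by
      rw [Subgroup.coe_mul, Subgroup.coe_inv]
      show x * a * x⁻¹ * (a : H)⁻¹ = _
      simp [mul_assoc]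
    rw [e]
    exact mul_mem hx ((inferInstance : (oddCore H).Normal).conj_mem _ (inv_mem hx) _)
  have h := congrArg Subtype.val (CfsgLib.TwoCompFour.hom_eq_id_of_central f hmem ⟨l, hl⟩)
  have h' : x * l * x⁻¹ = l := h
  exact (mul_inv_eq_iff_eq_mul.mp h').symm

theorem centralizer_eq_oddCore {L : Subgroup H} [L.Normal] [Group.IsPerfect L]
    (hcore : oddCore L = Subgroup.center L) (hodd : Odd (Nat.card (Subgroup.centralizer (L : Set H)))) :
    Subgroup.centralizer (L : Set H) = oddCore H :=
  le_antisymm (CfsgLib.le_oddCore hodd) (oddCore_le_centralizer hcore)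

section

variable {L : Subgroup H} [L.Normal] {M : Type v} [Group M] (e : L ⧸ Subgroup.center L ≃* M)

/-- The action of `H` on a copy of `L` modulo its centre. -/
def action : H →* MulAut M :=
  ((MulAut.congr e).toMonoidHom.comp (CfsgLib.PSL2.centreQuotAut L)).comp (MulAut.conjNormal (H := L))

theorem action_apply (x : H) (l : L) : action e x (e l) = e (MulAut.conjNormal (H := L) x l : L) := by
  show (MulAut.congr e (CfsgLib.PSL2.centreQuotAut L (MulAut.conjNormal (H := L) x))) (e l) = _
  show e (CfsgLib.PSL2.centreQuotAut L (MulAut.conjNormal (H := L) x) (e.symm (e l))) = _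
  rw [MulEquiv.symm_apply_apply]
  rfl

theorem action_ker [Group.IsPerfect L] : (action e).ker = Subgroup.centralizer (L : Set H) := by
  ext x
  rw [MonoidHom.mem_ker, Subgroup.mem_centralizer_iff]
  constructor
  · intro h l hl
    set f : L →* L := (MulAut.conjNormal (H := L) x).toMonoidHom
    have hmem : ∀ a : L, f a * a⁻¹ ∈ Subgroup.center L := fun a => by
      have h1 : e (f a : L) = e (a : L) := (action_apply e x a).symm.trans (by rw [h]; rfl)
      have h2 := (QuotientGroup.eq (s := Subgroup.center L)).mp (e.injective h1)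
      have h3 := inv_mem ((inferInstance : (Subgroup.center L).Normal).mem_comm h2)
      simpa using h3
    have h4 := congrArg Subtype.val (CfsgLib.TwoCompFour.hom_eq_id_of_central f hmem ⟨l, hl⟩)
    exact (mul_inv_eq_iff_eq_mul.mp (h4 : x * l * x⁻¹ = l)).symm
  · intro h
    refine MulEquiv.ext fun m => ?_
    obtain ⟨z, rfl⟩ := e.surjective m
    obtain ⟨l, rfl⟩ := QuotientGroup.mk_surjective z
    rw [action_apply]
    have hl : MulAut.conjNormal (H := L) x l = l := Subtype.ext (by
      show x * (l : H) * x⁻¹ = l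
      rw [← h l l.2, mul_inv_cancel_right])
    rw [hl]
    rfl

theorem action_map : L.map (action e) = (MulAut.conj : M →* MulAut M).range := by
  have key : ∀ l : L, action e l = MulAut.conj (e l) := fun l => MulEquiv.ext fun m => by
    obtain ⟨z, rfl⟩ := e.surjective m
    obtain ⟨a, rfl⟩ := QuotientGroup.mk_surjective z
    rw [action_apply, MulAut.conj_apply, ← map_inv, ← map_mul, ← map_mul]
    congr 1
  ext φ
  constructor
  · rintro ⟨x, hx, rfl⟩
    exact ⟨e (⟨x, hx⟩ : L), (key ⟨x, hx⟩).symm⟩
  · rintro ⟨m, rfl⟩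
    obtain ⟨z, rfl⟩ := e.surjective m
    obtain ⟨a, rfl⟩ := QuotientGroup.mk_surjective z
    exact ⟨a, a.2, key a⟩

end

theorem fieldPart_conj {F : Type*} [Field F] [Fintype F] (p : ℕ) [Fact p.Prime] [CharP F p]
    (x : Matrix.ProjectiveSpecialLinearGroup (Fin 2) F) : CfsgLib.PSL2.fieldPart p (MulAut.conj x) = 1 := by
  obtain ⟨A, rfl⟩ := QuotientGroup.mk'_surjective _ x
  exact CfsgLib.PSL2.fieldPart_eq p (g := Matrix.SpecialLinearGroup.toGL A) (e := RingEquiv.refl F)
    (by rw [CfsgLib.PSL2.fieldAut_refl, mul_one]; exact (CfsgLib.PSL2.diagAut_toGL A).symm)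

theorem conj_psl_injective {F : Type*} [Field F] [Fintype F] :
    Function.Injective (MulAut.conj : Matrix.ProjectiveSpecialLinearGroup (Fin 2) F →* _) := by
  refine (injective_iff_map_eq_one _).mpr fun u hu => ?_
  obtain ⟨A, rfl⟩ := QuotientGroup.mk'_surjective _ u
  obtain ⟨-, r, hr⟩ := CfsgLib.PSL2.scalar_of_fix (Matrix.SpecialLinearGroup.toGL A) (RingEquiv.refl F)
    (by rw [CfsgLib.PSL2.fieldAut_refl, ← hu]; exact CfsgLib.PSL2.diagAut_toGL A)
  refine (QuotientGroup.eq_one_iff A).mpr (Matrix.SpecialLinearGroup.mem_center_iff.mpr ⟨r, ?_, hr.symm⟩)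
  have hd := A.2
  rw [show (A : Matrix (Fin 2) (Fin 2) F) = Matrix.scalar (Fin 2) r from hr, Matrix.scalar_apply, Matrix.det_diagonal,
    Finset.prod_const, Finset.card_univ, Fintype.card_fin] at hd
  rw [Fintype.card_fin]; exact hd

/-- Field parts of even order are incompatible with dihedral Sylow 2-subgroups. -/
theorem field_odd_of_dihedral (hd : GWDihedral H) {F : Type} [Field F] [Fintype F] (hF : Odd (Fintype.card F))
    (h3 : 3 < Fintype.card F) (p : ℕ) [Fact p.Prime] [CharP F p]
    (ψ : H →* MulAut (Matrix.ProjectiveSpecialLinearGroup (Fin 2) F)) (hker : Odd (Nat.card ψ.ker))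
    (hinner : (MulAut.conj : Matrix.ProjectiveSpecialLinearGroup (Fin 2) F →* _).range ≤ ψ.range) :
    Odd (Nat.card ((CfsgLib.PSL2.fieldPart p).comp ψ).range) := by
  haveI : Fact (Nat.Prime 2) := ⟨Nat.prime_two⟩
  set φ₀ := (CfsgLib.PSL2.fieldPart p).comp ψ
  haveI : Finite φ₀.range := Finite.of_surjective _ φ₀.rangeRestrict_surjective
  haveI : Finite ψ.range := Finite.of_surjective _ ψ.rangeRestrict_surjective
  rw [← Nat.not_even_iff_odd, even_iff_two_dvd]
  intro h2
  obtain ⟨⟨_, x, rfl⟩, hx⟩ := exists_prime_orderOf_dvd_card' 2 h2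
  rw [← Subgroup.orderOf_coe] at hx
  change orderOf (φ₀ x) = 2 at hx
  -- an element of two-power order with the same image
  obtain ⟨k, m, hm, hkm⟩ := Nat.exists_eq_two_pow_mul_odd (orderOf_pos x).ne'
  have hy : φ₀ (x ^ m) = φ₀ x := by
    obtain ⟨j, hj⟩ := hm
    rw [map_pow, hj, pow_succ, pow_mul, ← hx, pow_orderOf_eq_one, one_pow, one_mul]
  have hyp : IsPGroup 2 (Subgroup.zpowers (x ^ m)) := by
    refine IsPGroup.of_card (n := k) ?_
    rw [Nat.card_zpowers, orderOf_pow_of_dvd (fun e => by subst e; exact (by simp at hm))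
      (hkm ▸ dvd_mul_left m _), hkm, Nat.mul_div_cancel _ hm.pos]
  obtain ⟨P, hP⟩ := hyp.exists_le_sylow
  obtain ⟨n, hn, ⟨eP⟩⟩ := hd.shape P
  haveI : NeZero n := ⟨by omega⟩
  -- an involution of `P` with non-trivial field part
  obtain ⟨y, hy2, hyf⟩ : ∃ y : H, y * y = 1 ∧ φ₀ y ≠ 1 := by
    by_contra hall
    push Not at hall
    have hsr : ∀ i : ZMod n, φ₀ (pt eP (DihedralGroup.sr i)) = 1 := fun i =>
      hall _ (by rw [← pt_mul, DihedralGroup.sr_mul_self, pt_one])
    have hz : φ₀ (x ^ m) = 1 := by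
      have hxm := hP (Subgroup.mem_zpowers (x ^ m))
      rw [← pt_eq eP hxm]
      rcases eP ⟨x ^ m, hxm⟩ with i | i
      · rw [show (DihedralGroup.r i : DihedralGroup n) = DihedralGroup.sr 0 * DihedralGroup.sr i by
          rw [DihedralGroup.sr_mul_sr, sub_zero], pt_mul, map_mul, hsr, hsr, one_mul]
      · exact hsr i
    rw [hy] at hz
    rw [hz, orderOf_one] at hx
    norm_num at hx
  have h20 : (2 : F) ≠ 0 := by
    have hc : ringChar F ≠ 2 := by
      intro hc
      have := FiniteField.even_card_of_char_two hc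
      rw [Nat.odd_iff] at hF
      omega
    exact Ring.two_ne_zero hc
  obtain ⟨U, hU, hUfix⟩ := Model.field_involution_klein p h20 (φ := ψ y)
    (by rw [← map_mul, hy2, map_one]) hyf
  haveI := hU
  haveI : Finite (Matrix.ProjectiveSpecialLinearGroup (Fin 2) F) :=
    Finite.of_surjective _ (QuotientGroup.mk'_surjective _)
  let V : Subgroup ψ.range := (U.map MulAut.conj).subgroupOf ψ.range
  have hV : IsKleinFour V :=
    isKleinFour_of_equiv ((U.equivMapOfInjective MulAut.conj
      conj_psl_injective).trans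
      (Subgroup.subgroupOfEquivOfLe ((Subgroup.map_le_range MulAut.conj U).trans hinner)).symm)
  have hrange := hd.range ψ hker
  have hyV : (⟨ψ y, y, rfl⟩ : ψ.range) ∈ V := hrange.no_eight hV (by
    rw [← Subgroup.orderOf_coe]
    refine orderOf_eq_prime (by rw [sq, ← map_mul, hy2, map_one]) fun e => hyf ?_
    show CfsgLib.PSL2.fieldPart p (ψ y) = 1
    exact (congrArg (CfsgLib.PSL2.fieldPart p) e).trans (map_one _)) fun w hw => by
      obtain ⟨u, hu, hu'⟩ := Subgroup.mem_subgroupOf.mp hw
      refine Subtype.ext ?_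
      show ψ y * (w : MulAut _) = (w : MulAut _) * ψ y
      rw [← hu']
      refine MulEquiv.ext fun z => ?_
      simp only [MulAut.mul_apply, MulAut.conj_apply, map_mul, map_inv, hUfix u hu]
  obtain ⟨u, -, hu⟩ := Subgroup.mem_subgroupOf.mp hyV
  refine hyf ?_
  show CfsgLib.PSL2.fieldPart p (ψ y) = 1
  exact (congrArg (CfsgLib.PSL2.fieldPart p) hu.symm).trans (fieldPart_conj p u)

/-- The automorphism group of `A₇` is `S₇`. -/
noncomputable def autSeven : MulAut (alternatingGroup (Fin 7)) ≃* Equiv.Perm (Fin 7) :=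
  (MulEquiv.ofBijective (MulAut.conjNormal : Equiv.Perm (Fin 7) →* MulAut (alternatingGroup (Fin 7)))
    (Cfsg.Agent.S2119.result 7 (by norm_num) (by norm_num))).symm

theorem autSeven_conj (a : alternatingGroup (Fin 7)) : autSeven (MulAut.conj a) = (a : Equiv.Perm (Fin 7)) := by
  rw [autSeven, MulEquiv.symm_apply_eq]
  refine MulEquiv.ext fun x => Subtype.ext ?_
  show _ = ((MulAut.conjNormal (H := alternatingGroup (Fin 7)) (a : Equiv.Perm (Fin 7))) x : Equiv.Perm (Fin 7))
  rw [MulAut.conjNormal_apply]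
  rfl

open Equiv in
theorem range_le_alternating (hd : GWDihedral H) (θ : H →* Perm (Fin 7)) (hker : Odd (Nat.card θ.ker))
    (hA : alternatingGroup (Fin 7) ≤ θ.range) : θ.range = alternatingGroup (Fin 7) := by
  refine le_antisymm ?_ hA
  intro σ hσ
  by_contra hn
  have htop : ∀ π : Perm (Fin 7), π ∈ θ.range := fun π => by
    rcases Int.units_eq_one_or (Perm.sign π) with h | h
    · exact hA (Perm.mem_alternatingGroup.mpr h)
    · have : π * σ⁻¹ ∈ alternatingGroup (Fin 7) := by
        rw [Perm.mem_alternatingGroup, map_mul, map_inv, h,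
          (Int.units_eq_one_or _).resolve_left fun e => hn (Perm.mem_alternatingGroup.mpr e)]
        decide
      have h' := mul_mem (hA this) hσ
      rwa [inv_mul_cancel_right] at h'
  haveI : Finite θ.range := Finite.of_surjective _ θ.rangeRestrict_surjective
  let a : θ.range := ⟨swap 0 1, htop _⟩
  let b : θ.range := ⟨swap 2 3, htop _⟩
  let c : θ.range := ⟨swap 4 5, htop _⟩
  have ha : a * a = 1 := Subtype.ext (swap_mul_self _ _)
  have hb : b * b = 1 := Subtype.ext (swap_mul_self _ _)
  have hab : a * b = b * a := Subtype.ext (by show swap (0 : Fin 7) 1 * swap 2 3 = swap 2 3 * swap 0 1; decide)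
  have hK := PSL2Klein.four_klein ha hb hab
    (fun e => absurd (congrArg Subtype.val e) (by show swap (0 : Fin 7) 1 ≠ 1; decide))
    (fun e => absurd (congrArg Subtype.val e) (by show swap (2 : Fin 7) 3 ≠ 1; decide))
    (fun e => absurd (congrArg Subtype.val e) (by show swap (0 : Fin 7) 1 ≠ swap 2 3; decide))
  have hc := (hd.range θ hker).no_eight hK (c := c) (by
    rw [← Subgroup.orderOf_coe]
    exact orderOf_eq_prime (by rw [sq]; exact swap_mul_self _ _) (by show swap (4 : Fin 7) 5 ≠ 1; decide)) ?_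
  · rcases hc with e | e | e | e <;> have e' := congrArg Subtype.val e
    · exact absurd e' (by show swap (4 : Fin 7) 5 ≠ 1; decide)
    · exact absurd e' (by show swap (4 : Fin 7) 5 ≠ swap 0 1; decide)
    · exact absurd e' (by show swap (4 : Fin 7) 5 ≠ swap 2 3; decide)
    · exact absurd e' (by show swap (4 : Fin 7) 5 ≠ swap 0 1 * swap 2 3; decide)
  · rintro u (rfl | rfl | rfl | rfl)
    · rw [mul_one, one_mul]
    · exact Subtype.ext (by show swap (4 : Fin 7) 5 * swap 0 1 = swap 0 1 * swap 4 5; decide)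
    · exact Subtype.ext (by show swap (4 : Fin 7) 5 * swap 2 3 = swap 2 3 * swap 4 5; decide)
    · exact Subtype.ext (by
        show swap (4 : Fin 7) 5 * (swap 0 1 * swap 2 3) = swap 0 1 * swap 2 3 * swap 4 5; decide)

/-- One of the two frames exists. -/
theorem exists_frame (hd : GWDihedral H) (L : Subgroup H) [L.Normal] [Group.IsPerfect L]
    (hcore : oddCore L = Subgroup.center L) (hm : GWModel (L ⧸ oddCore L))
    (hodd : Odd (Nat.card (Subgroup.centralizer (L : Set H)))) :
    Nonempty (PSLFrame H L) ∨ Nonempty (SevenFrame H L) := by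
  rcases hm with ⟨F, hF, hFt, hFo, h3, he⟩ | he
  · obtain ⟨e⟩ := he
    left
    let e' := (QuotientGroup.quotientMulEquivOfEq hcore).symm.trans e
    obtain ⟨p, hp⟩ := CharP.exists F
    haveI := hp
    haveI : Fact p.Prime := ⟨CharP.char_is_prime F p⟩
    have hker := action_ker e'
    exact ⟨{
      F := F
      p := p
      odd := hFo
      three_lt := h3
      ψ := action e'
      ker_eq := hker
      map_L := action_map e'
      field_odd := field_odd_of_dihedral hd hFo h3 p (action e') (hker ▸ hodd)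
        ((action_map e').symm.le.trans (Subgroup.map_le_range _ _)) }⟩
  · obtain ⟨e⟩ := he
    right
    let e' := (QuotientGroup.quotientMulEquivOfEq hcore).symm.trans e
    let θ : H →* Equiv.Perm (Fin 7) := autSeven.toMonoidHom.comp (action e')
    have hθker : θ.ker = Subgroup.centralizer (L : Set H) := by
      rw [← action_ker e']
      ext x
      simp only [θ, MonoidHom.mem_ker, MonoidHom.comp_apply, MulEquiv.coe_toMonoidHom, EmbeddingLike.map_eq_one_iff]
    have hA : ∀ a : alternatingGroup (Fin 7), ∃ x ∈ L, θ x = (a : Equiv.Perm (Fin 7)) := fun a => by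
      obtain ⟨x, hx, hxa⟩ := (action_map e').symm.le ⟨a, rfl⟩
      exact ⟨x, hx, by show autSeven (action e' x) = _; rw [hxa, autSeven_conj]⟩
    have hr := range_le_alternating hd θ (hθker ▸ hodd) fun a ha => by
      obtain ⟨x, -, hx⟩ := hA ⟨a, ha⟩
      exact ⟨x, hx⟩
    have hmem : ∀ x, θ x ∈ alternatingGroup (Fin 7) := fun x => hr ▸ ⟨x, rfl⟩
    exact ⟨{
      π := θ.codRestrict _ hmem
      ker_eq := by rw [MonoidHom.ker_codRestrict, hθker]
      map_L := eq_top_iff.mpr fun a _ => by
        obtain ⟨x, hx, hxa⟩ := hA a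
        exact ⟨x, hx, Subtype.ext hxa⟩ }⟩

/-- The frame of a component of a proper subgroup of a `GWHyp` group; also `C_H(L) = O(H)`. -/
theorem GWHyp.exists_frame {G : Type u} [Group G] [Finite G] (h : GWHyp G) (K : Subgroup G) (hK : K ≠ ⊤)
    {L : Subgroup K} (hL : IsComponent L) :
    (Nonempty (PSLFrame K L) ∨ Nonempty (SevenFrame K L)) ∧ Subgroup.centralizer (L : Set K) = oddCore K := by
  obtain ⟨hd, -, hm, hcore, hn, hodd, -⟩ := h.component K hK hL
  haveI := hn
  haveI : Group.IsPerfect L := hL.2.1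
  exact ⟨CfsgLib.GW.exists_frame hd L hcore hm hodd, centralizer_eq_oddCore hcore hodd⟩

end CfsgLib.GW
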