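import Cfsg.Agent.Lib.GW.Model.Diag
import Cfsg.Agent.Lib.GW.CltK.Shape
import Cfsg.Agent.Lib.StSL.Two

/-!
`PGL₂(q)` extended by field automorphisms of odd order: the facts of `PGLShape`.
-/

set_option autoImplicit false
set_option linter.unusedSectionVars false

namespace CfsgLib.GW

open Cfsg CfsgLib.PSL2Max
open scoped MatrixGroups

universe u

/-- Models are simple and perfect. -/
theorem GWModel.simple_perfect {X : Type u} [Group X] (h : GWModel X) : IsSimpleGroup X ∧ Group.IsPerfect X := by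
  rcases h with ⟨F, hF, hFt, -, h3, he⟩ | he
  · obtain ⟨e⟩ := he
    haveI hs : IsSimpleGroup (Matrix.ProjectiveSpecialLinearGroup (Fin 2) F) :=
      Matrix.ProjectiveSpecialLinearGroup.rank_two_simple (by rw [Nat.card_eq_fintype_card]; omega)
    haveI : Group.IsPerfect (Matrix.SpecialLinearGroup (Fin 2) F) := ⟨CfsgLib.StSL.perfect_SL2 h3⟩
    haveI : Group.IsPerfect (Matrix.ProjectiveSpecialLinearGroup (Fin 2) F) :=
      Group.IsPerfect.ofSurjective (f := QuotientGroup.mk' _) (QuotientGroup.mk'_surjective _)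
    exact ⟨e.isSimpleGroup_congr.mpr hs, Group.IsPerfect.ofSurjective (f := e.symm.toMonoidHom) e.symm.surjective⟩
  · obtain ⟨e⟩ := he
    haveI hs : IsSimpleGroup (alternatingGroup (Fin 7)) := alternatingGroup.isSimpleGroup (by simp)
    haveI : Group.IsPerfect (alternatingGroup (Fin 7)) :=
      ⟨commutator_alternatingGroup_eq_top (by simp)⟩
    exact ⟨e.isSimpleGroup_congr.mpr hs, Group.IsPerfect.ofSurjective (f := e.symm.toMonoidHom) e.symm.surjective⟩

/-- In a finite cyclic group an element of a subgroup of index two containing all squares is a square. -/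
theorem exists_sq_of_index_two {U : Type u} [CommGroup U] [Finite U] [IsCyclic U] {R : Subgroup U}
    (hi : R.index = 2) {u : U} (hu : u ∈ R) : ∃ w : U, w * w = u := by
  classical
  set f : U →* U := powMonoidHom 2
  have hle : f.range ≤ R := by
    rintro _ ⟨w, rfl⟩
    show w ^ 2 ∈ R
    exact sq w ▸ (Subgroup.mul_mem_iff_of_index_two hi).mpr Iff.rfl
  have hk : Nat.card f.ker ≤ 2 := by
    haveI := Fintype.ofFinite U
    rw [Nat.card_eq_fintype_card, Fintype.card_subtype]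
    refine le_trans (Finset.card_le_card fun a ha => ?_) (IsCyclic.card_pow_eq_one_le (α := U) two_pos)
    exact Finset.mem_filter.mpr ⟨Finset.mem_univ _, MonoidHom.mem_ker.mp (Finset.mem_filter.mp ha).2⟩
  have h1 := f.ker.card_mul_index
  rw [Subgroup.index_ker] at h1
  have h2 := R.card_mul_index
  rw [hi] at h2
  have h3 : f.range = R := Subgroup.eq_of_le_of_card_ge hle (by nlinarith)
  obtain ⟨w, hw⟩ := h3.symm ▸ hu
  exact ⟨w, (sq w).symm.trans hw⟩

/-- The shape of a group with a normal `PSL₂(q)` or `A₇`, trivial centraliser and an outer involution. -/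
theorem pglShape_exists {Q : Type u} [Group Q] [Finite Q] (hd : GWDihedral Q) (E : Subgroup Q) [E.Normal]
    (hm : GWModel E) (hC : Subgroup.centralizer (E : Set Q) = ⊥) {v : Q} (hv : orderOf v = 2) (hvE : v ∉ E) :
    ∃ q f e, PGLShape Q E q f e := by
  classical
  haveI : Fact (Nat.Prime 2) := ⟨Nat.prime_two⟩
  haveI hs := hm.simple_perfect.1
  haveI := hm.simple_perfect.2
  have hOE : oddCore E = ⊥ := by
    refine (hs.eq_bot_or_eq_top_of_normal _ inferInstance).resolve_right fun e => ?_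
    have hodd := CfsgLib.odd_card_oddCore (G := E)
    rw [e, Subgroup.card_top] at hodd
    haveI := subsingleton_of_odd hodd
    exact not_nontrivial _ hs.toNontrivial
  have hcore : oddCore E = Subgroup.center E := by
    rw [hOE]
    refine ((hs.eq_bot_or_eq_top_of_normal _ inferInstance).resolve_right fun e => ?_).symm
    exact Group.IsPerfect.not_isMulCommutative E
      ⟨⟨fun a b => (Subgroup.mem_center_iff.mp (e ▸ Subgroup.mem_top a) b).symm⟩⟩
  have hm' : GWModel (E ⧸ oddCore E) :=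
    GWModel.of_equiv ((QuotientGroup.quotientMulEquivOfEq hOE).trans QuotientGroup.quotientBot) hm
  rcases exists_frame hd E hcore hm' (by rw [hC, Subgroup.card_bot]; exact odd_one) with ⟨⟨fr⟩⟩ | ⟨⟨fr⟩⟩
  swap
  · exfalso
    obtain ⟨x, hx, hxv⟩ : fr.π v ∈ E.map fr.π := fr.map_L.symm ▸ Subgroup.mem_top _
    have hinj : Function.Injective fr.π := (MonoidHom.ker_eq_bot_iff _).mp (fr.ker_eq.trans hC)
    exact hvE (hinj hxv ▸ hx)
  set F := fr.F
  have hodd := fr.odd
  have h3 := fr.three_lt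
  have hv2 : v * v = 1 := Involutions.mul_self_eq_one_of_orderOf hv
  set D := fr.diag
  have hinj : Function.Injective fr.pgl := (injective_iff_map_eq_one _).mpr fun x hx => by
    have := (fr.pgl_eq_one_iff x).mp hx
    rw [hC, Subgroup.mem_bot] at this
    exact Subtype.ext this
  have hinner : ∀ x : D, fr.pgl x ∈ (phi (F := F)).range ↔ (x : Q) ∈ E := fun x => by
    rw [fr.pgl_mem_range_iff]
    constructor
    · rintro ⟨l, hl, w, hw, e⟩
      rw [hC, Subgroup.mem_bot] at hw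
      rw [e, hw, mul_one]; exact hl
    · intro h
      exact ⟨x, h, 1, one_mem _, (mul_one _).symm⟩
  have hvout : fr.pgl ⟨v, fr.mem_diag_of_sq hv2⟩ ∉ (phi (F := F)).range := fun h => hvE ((hinner _).mp h)
  haveI : Finite (Matrix.ProjGenLinGroup (Fin 2) F) := Finite.of_surjective _ Matrix.ProjGenLinGroup.mk_surjective
  have hidx := index_range (F := F) fr.p (Model.p_ne_two fr.p hodd)
  have hsurj : Function.Surjective fr.pgl := by
    intro g
    have hle : (phi (F := F)).range ≤ fr.pgl.range := fr.map_L_pgl ▸ Subgroup.map_le_range _ _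
    by_cases hg : g ∈ (phi (F := F)).range
    · exact hle hg
    · obtain ⟨y, hy⟩ : g * fr.pgl ⟨v, fr.mem_diag_of_sq hv2⟩ ∈ fr.pgl.range :=
        hle ((Subgroup.mul_mem_iff_of_index_two hidx).mpr (iff_of_false hg hvout))
      exact ⟨y * ⟨v, fr.mem_diag_of_sq hv2⟩⁻¹, by rw [map_mul, map_inv, hy, mul_inv_cancel_right]⟩
  set q := Fintype.card F
  set f := D.index
  set e : ℤ := if q % 4 = 1 then -1 else 1
  have hq2 : q % 2 = 1 := Nat.odd_iff.mp hodd
  have hq0 : 0 < q := Fintype.card_pos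
  have hqm : (Model.qm F : ℤ) = (q : ℤ) + e ∧ (Model.qp F : ℤ) = (q : ℤ) - e := by
    have h := Model.qm_cast hodd (e := -e) (by simp only [e]; split <;> simp)
      (by simp only [e]; split <;> omega)
    simpa [sub_eq_add_neg] using h
  -- centralisers cover `Q` modulo `D`
  have hdiag : ∀ x : Q, x * x = 1 → x ∈ D := fun x hx => fr.mem_diag_of_sq hx
  have hconj : ∀ a b : Q, a * a = 1 → a ≠ 1 → b * b = 1 → b ≠ 1 → (a ∈ E ↔ b ∈ E) →
      ∃ y ∈ E, y * a * y⁻¹ = b := by
    intro a b ha ha1 hb hb1 hab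
    have hA : fr.pgl ⟨a, hdiag a ha⟩ ≠ 1 := fun h =>
      ha1 (congrArg Subtype.val (hinj (h.trans (map_one _).symm)))
    have hB : fr.pgl ⟨b, hdiag b hb⟩ ≠ 1 := fun h =>
      hb1 (congrArg Subtype.val (hinj (h.trans (map_one _).symm)))
    obtain ⟨m, hm⟩ := Model.invol_conj hodd h3
      (by rw [← map_mul, show (⟨a, hdiag a ha⟩ : D) * ⟨a, hdiag a ha⟩ = 1 from Subtype.ext ha, map_one]) hA
      (by rw [← map_mul, show (⟨b, hdiag b hb⟩ : D) * ⟨b, hdiag b hb⟩ = 1 from Subtype.ext hb, map_one]) hB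
      (by rw [hinner, hinner]; exact hab)
    obtain ⟨y, hy, hym⟩ : phi m ∈ (E.subgroupOf D).map fr.pgl := fr.map_L_pgl.symm ▸ ⟨m, rfl⟩
    refine ⟨y, hy, congrArg Subtype.val (hinj (a₁ := y * ⟨a, hdiag a ha⟩ * y⁻¹) (a₂ := ⟨b, hdiag b hb⟩) ?_)⟩
    rw [map_mul, map_mul, map_inv, hym, hm]
  have hEside : ∀ a x : Q, x * a * x⁻¹ ∈ E ↔ a ∈ E := fun a x => by
    refine ⟨fun h => ?_, fun h => (inferInstance : E.Normal).conj_mem a h x⟩
    simpa [mul_assoc] using (inferInstance : E.Normal).conj_mem _ h x⁻¹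
  have hinvol : ∀ a : Q, orderOf a = 2 → a * a = 1 ∧ a ≠ 1 := fun a ha =>
    ⟨Involutions.mul_self_eq_one_of_orderOf ha, fun h => by rw [h, orderOf_one] at ha; norm_num at ha⟩
  have hconjsq : ∀ a x : Q, a * a = 1 → a ≠ 1 → x * a * x⁻¹ * (x * a * x⁻¹) = 1 ∧ x * a * x⁻¹ ≠ 1 := fun a x ha ha1 =>
    ⟨by rw [show x * a * x⁻¹ * (x * a * x⁻¹) = x * (a * a) * x⁻¹ by group, ha, mul_one, mul_inv_cancel],
      fun h => ha1 (conj_eq_one_iff.mp h)⟩
  have hcover : ∀ a : Q, a * a = 1 → a ≠ 1 → ∀ x : Q, ∃ d ∈ D, d * x * a = a * (d * x) := by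
    intro a ha ha1 x
    obtain ⟨y, hy, hyx⟩ := hconj _ a (hconjsq a x ha ha1).1 (hconjsq a x ha ha1).2 ha ha1 (hEside a x)
    refine ⟨y, fr.L_le_diag hy, ?_⟩
    rw [← mul_inv_eq_iff_eq_mul, mul_inv_rev]
    simpa [mul_assoc] using hyx
  -- counting
  have hcount : ∀ C : Subgroup Q, (∀ x : Q, ∃ d ∈ D, d * x ∈ C) →
      Nat.card C = f * Nat.card (D.subgroupOf C) := by
    intro C hC'
    have hsurjC : Function.Surjective ((QuotientGroup.mk' D).comp C.subtype) := fun z => by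
      obtain ⟨x, rfl⟩ := QuotientGroup.mk'_surjective D z
      obtain ⟨d, hd, hdC⟩ := hC' x
      refine ⟨⟨d * x, hdC⟩, ?_⟩
      show ((d * x : Q) : Q ⧸ D) = (x : Q ⧸ D)
      rw [QuotientGroup.mk_mul, (QuotientGroup.eq_one_iff d).mpr hd, one_mul]
    have hk : ((QuotientGroup.mk' D).comp C.subtype).ker = D.subgroupOf C := by
      ext c; simp [MonoidHom.mem_ker, Subgroup.mem_subgroupOf]
    rw [Subgroup.card_eq_card_quotient_mul_card_subgroup (D.subgroupOf C)]
    congr 1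
    rw [← hk, Nat.card_congr (QuotientGroup.quotientKerEquivOfSurjective _ hsurjC).toEquiv]
    rfl
  have hDcard : ∀ (C : Subgroup Q) (C' : Subgroup (Matrix.ProjGenLinGroup (Fin 2) F)),
      (∀ x : D, (x : Q) ∈ C ↔ fr.pgl x ∈ C') → Nat.card (D.subgroupOf C) = Nat.card C' := by
    intro C C' h
    let g : D.subgroupOf C → C' := fun x => ⟨fr.pgl ⟨(x : C), Subgroup.mem_subgroupOf.mp x.2⟩, (h _).mp (x : C).2⟩
    refine Nat.card_eq_of_bijective g ⟨fun a b hab => ?_, fun z => ?_⟩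
    · exact Subtype.ext (Subtype.ext (congrArg (fun w : D => (w : Q)) (hinj
        (congrArg (fun z : C' => (z : Matrix.ProjGenLinGroup (Fin 2) F)) hab))))
    · obtain ⟨x, hx⟩ := hsurj z
      exact ⟨⟨⟨x, (h x).mpr (hx ▸ z.2)⟩, Subgroup.mem_subgroupOf.mpr x.2⟩, Subtype.ext hx⟩
  have hcomm_iff : ∀ (x : D) (a : D), (x : Q) * a = a * x ↔ fr.pgl x * fr.pgl a = fr.pgl a * fr.pgl x :=
    fun x a => by
      rw [← map_mul, ← map_mul, hinj.eq_iff, Subtype.ext_iff, Subgroup.coe_mul, Subgroup.coe_mul]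
  have hτ : ∀ a : D, (a : Q) * a = 1 → (a : Q) ≠ 1 → fr.pgl a * fr.pgl a = 1 ∧ fr.pgl a ≠ 1 := fun a ha ha1 =>
    ⟨by rw [← map_mul, show a * a = 1 from Subtype.ext ha, map_one],
      fun h => ha1 (congrArg Subtype.val (hinj (h.trans (map_one _).symm)))⟩
  have hcent : ∀ a : Q, ∀ (ha : orderOf a = 2), (Nat.card (Subgroup.centralizer ({a} : Set Q)) : ℤ) =
      2 * (if a ∈ E then (q : ℤ) + e else (q : ℤ) - e) * f := by
    intro a ha
    obtain ⟨ha2, ha1⟩ := hinvol a ha
    obtain ⟨hτ2, hτ1⟩ := hτ ⟨a, hdiag a ha2⟩ ha2 ha1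
    obtain ⟨U, -, -, -, -, -, hc, -⟩ := Model.invol_cent hodd h3 hτ2 hτ1
    rw [hcount _ fun x => by
        obtain ⟨d, hd, hda⟩ := hcover a ha2 ha1 x
        exact ⟨d, hd, Subgroup.mem_centralizer_singleton_iff.mpr hda⟩,
      hDcard _ (Subgroup.centralizer ({fr.pgl ⟨a, hdiag a ha2⟩} : Set _)) (fun x => by
        rw [Subgroup.mem_centralizer_singleton_iff, Subgroup.mem_centralizer_singleton_iff]
        exact hcomm_iff x ⟨a, hdiag a ha2⟩), hc, Model.torusOrder]
    by_cases haE : a ∈ E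
    · rw [if_pos ((hinner ⟨a, hdiag a ha2⟩).mpr haE), if_pos haE, ← hqm.1]
      push_cast; ring
    · rw [if_neg (fun h => haE ((hinner ⟨a, hdiag a ha2⟩).mp h)), if_neg haE, ← hqm.2]
      push_cast; ring
  refine ⟨q, f, e, ⟨?_, ?_, ?_, ?_, ?_, ?_, ?_, ?_, ?_, ?_,
    fun a b ha hb => hconj a b (hinvol a ha).1 (hinvol a ha).2 (hinvol b hb).1 (hinvol b hb).2⟩⟩
  · omega
  · simp only [e]; split <;> simp
  · simp only [e]; split <;> omega
  · exact fr.odd_index_diag
  · rw [← D.card_mul_index, Nat.card_eq_of_bijective _ ⟨hinj, hsurj⟩]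
    congr 1
    rw [← (phi (F := F)).range.card_mul_index, hidx, ← Nat.card_congr (MonoidHom.ofInjective phi_injective).toEquiv,
      mul_comm, CfsgLib.PSL2Max.two_card fr.p (Model.p_ne_two fr.p hodd)]
  · intro t htE ht
    rw [hcent t ht, if_pos htE]
  · intro w hwE hw
    rw [hcent w hw, if_neg hwE]
  · -- four groups
    intro t htE ht w hw hne hwt
    obtain ⟨ht2, ht1⟩ := hinvol t ht
    obtain ⟨hw2, hw1⟩ := hinvol w hw
    obtain ⟨hτ2, hτ1⟩ := hτ ⟨t, hdiag t ht2⟩ ht2 ht1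
    obtain ⟨hσ2, hσ1⟩ := hτ ⟨w, hdiag w hw2⟩ hw2 hw1
    obtain ⟨U, hUc, -, hτU, hUC, hnot, -, -, -, hout, -⟩ := Model.invol_cent hodd h3 hτ2 hτ1
    set τ := fr.pgl ⟨t, hdiag t ht2⟩
    set σ := fr.pgl ⟨w, hdiag w hw2⟩
    have hστ : σ * τ = τ * σ := (hcomm_iff _ _).mp hwt
    have hne' : σ ≠ τ := fun h => hne (congrArg Subtype.val (hinj h))
    have hUout : ∀ ρ : Matrix.ProjGenLinGroup (Fin 2) F, ρ * ρ = 1 → ρ ≠ 1 → ρ ≠ τ →
        ρ ∈ Subgroup.centralizer ({τ} : Set _) → ρ ∉ U := by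
      intro ρ hρ hρ1 hρτ hρC hρU
      haveI := hUc
      haveI := Fintype.ofFinite U
      have h := IsCyclic.card_pow_eq_one_le (α := U) (n := 2) two_pos
      have hsub : ({1, ⟨τ, hτU⟩, ⟨ρ, hρU⟩} : Finset U) ⊆ Finset.univ.filter fun a : U => a ^ 2 = 1 := by
        intro a ha
        simp only [Finset.mem_insert, Finset.mem_singleton] at ha
        refine Finset.mem_filter.mpr ⟨Finset.mem_univ _, ?_⟩
        rcases ha with rfl | rfl | rfl
        · exact one_pow 2
        · exact Subtype.ext (by show τ ^ 2 = 1; rw [sq, hτ2])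
        · exact Subtype.ext (by show ρ ^ 2 = 1; rw [sq, hρ])
      have hcd := (Finset.card_le_card hsub).trans h
      rw [Finset.card_insert_of_notMem (by
        simp only [Finset.mem_insert, Finset.mem_singleton, not_or]
        exact ⟨fun h => hτ1 (congrArg Subtype.val h).symm, fun h => hρ1 (congrArg Subtype.val h).symm⟩),
        Finset.card_pair fun h => hρτ (congrArg Subtype.val h).symm] at hcd
      omega
    have hσU := hUout σ hσ2 hσ1 hne' (Subgroup.mem_centralizer_singleton_iff.mpr hστ)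
    have hDK : Nat.card (D.subgroupOf (Subgroup.centralizer ({t, w} : Set Q))) = 4 := by
      have hK := CfsgLib.PSL2Klein.four_klein hτ2 hσ2 hστ.symm hτ1 hσ1 hne'.symm
      rw [← hK.card_four]
      refine hDcard _ (CfsgLib.PSL2Klein.four τ σ hτ2 hσ2 hστ.symm) fun x => ?_
      rw [Subgroup.mem_centralizer_iff]
      constructor
      · intro h
        exact Model.centralizer_pair hodd h3 hτ2 hτ1 hσ2 hσ1 hne' hστ
          ((hcomm_iff x ⟨t, hdiag t ht2⟩).mp (h t (Set.mem_insert _ _)).symm)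
          ((hcomm_iff x ⟨w, hdiag w hw2⟩).mp (h w (Set.mem_insert_of_mem _ rfl)).symm)
      · intro h y hy
        have hx : fr.pgl x * τ = τ * fr.pgl x ∧ fr.pgl x * σ = σ * fr.pgl x := by
          rcases h with e1 | e1 | e1 | e1 <;> rw [e1]
          · simp
          · exact ⟨rfl, hστ.symm⟩
          · exact ⟨hστ, rfl⟩
          · refine ⟨?_, ?_⟩
            · rw [mul_assoc, hστ, ← mul_assoc]
            · rw [← mul_assoc σ τ σ, hστ]
        rcases hy with rfl | rfl
        · exact ((hcomm_iff x ⟨y, hdiag y ht2⟩).mpr hx.1).symm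
        · exact ((hcomm_iff x ⟨y, hdiag y hw2⟩).mpr hx.2).symm
    rw [hcount _ (fun x => ?_), hDK, mul_comm]
    · obtain ⟨d, hdD, hd'⟩ := hcover t ht2 ht1 x
      -- move the conjugate of `w` back inside `D ∩ C(t)`
      set y := d * x with hy
      obtain ⟨hw2', hw1'⟩ := hconjsq w y hw2 hw1
      obtain ⟨hρ2, hρ1⟩ := hτ ⟨y * w * y⁻¹, hdiag _ hw2'⟩ hw2' hw1'
      set ρ := fr.pgl ⟨y * w * y⁻¹, hdiag _ hw2'⟩
      have hty : y * t * y⁻¹ = t := by rw [hd', mul_inv_cancel_right]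
      have hρτ : ρ * τ = τ * ρ := by
        refine (hcomm_iff ⟨y * w * y⁻¹, hdiag _ hw2'⟩ ⟨t, hdiag t ht2⟩).mp ?_
        show y * w * y⁻¹ * t = t * (y * w * y⁻¹)
        calc y * w * y⁻¹ * t = y * w * y⁻¹ * (y * t * y⁻¹) := by rw [hty]
          _ = y * (w * t) * y⁻¹ := by group
          _ = y * (t * w) * y⁻¹ := by rw [hwt]
          _ = y * t * y⁻¹ * (y * w * y⁻¹) := by group
          _ = t * (y * w * y⁻¹) := by rw [hty]
      have hρne : ρ ≠ τ := fun h => hne (by
        have h' : y * w * y⁻¹ = t := congrArg Subtype.val (hinj h)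
        exact mul_left_cancel (mul_right_cancel (h'.trans hty.symm)))
      have hρU := hUout ρ hρ2 hρ1 hρne (Subgroup.mem_centralizer_singleton_iff.mpr hρτ)
      have hσC : σ ∈ Subgroup.centralizer ({τ} : Set _) := Subgroup.mem_centralizer_singleton_iff.mpr hστ
      have hρC : ρ ∈ Subgroup.centralizer ({τ} : Set _) := Subgroup.mem_centralizer_singleton_iff.mpr hρτ
      have hu0 : ρ * σ ∈ U := by
        by_contra hU'
        obtain ⟨u, hu, huR⟩ := SetLike.not_le_iff_exists.mp hnot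
        have e1 := (hout ρ hρC hρU).2 u hu
        have e2 := (hout σ hσC hσU).2 u hu
        have e3 := (hout (ρ * σ) (mul_mem hρC hσC) hU').2 u hu
        rw [_root_.mul_inv_rev, show ρ * σ * u * (σ⁻¹ * ρ⁻¹) = ρ * (σ * u * σ⁻¹) * ρ⁻¹ by group, e2,
          show ρ * u⁻¹ * ρ⁻¹ = (ρ * u * ρ⁻¹)⁻¹ by group, e1, inv_inv] at e3
        by_cases h2u : u = τ
        · exact huR (h2u ▸ (hinner ⟨t, hdiag t ht2⟩).mpr htE)
        by_cases h1u : u = 1
        · exact huR (h1u ▸ one_mem _)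
        refine hUout u ?_ h1u h2u (hUC hu) hu
        nth_rewrite 2 [e3]
        exact mul_inv_cancel u
      have hu0R : ρ * σ ∈ (phi (F := F)).range := by
        rw [Subgroup.mul_mem_iff_of_index_two hidx, hinner, hinner]
        exact hEside w y
      haveI := hUc
      letI : CommGroup U := IsCyclic.commGroup
      obtain ⟨u₁, hu₁⟩ := exists_sq_of_index_two (U := U) (R := (phi (F := F)).range.subgroupOf U) (by
        refine Subgroup.index_eq_two_iff.mpr ?_
        obtain ⟨a, ha, haR⟩ := SetLike.not_le_iff_exists.mp hnot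
        refine ⟨⟨a, ha⟩, fun b => ?_⟩
        simp only [Subgroup.mem_subgroupOf, Subgroup.coe_mul]
        by_cases hb : (b : Matrix.ProjGenLinGroup (Fin 2) F) ∈ (phi (F := F)).range
        · exact Or.inr ⟨hb, fun h => haR ((Subgroup.mul_mem_iff_of_index_two hidx).mp h |>.mp hb)⟩
        · exact Or.inl ⟨(Subgroup.mul_mem_iff_of_index_two hidx).mpr (iff_of_false hb haR), hb⟩)
        (u := ⟨ρ * σ, hu0⟩) (Subgroup.mem_subgroupOf.mpr hu0R)
      obtain ⟨d₁, hd₁⟩ := hsurj (u₁ : Matrix.ProjGenLinGroup (Fin 2) F)⁻¹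
      refine ⟨d₁ * d, mul_mem d₁.2 hdD, Subgroup.mem_centralizer_iff.mpr ?_⟩
      have hd₁t : (d₁ : Q) * t = t * d₁ := (hcomm_iff d₁ ⟨t, hdiag t ht2⟩).mpr (by
        rw [hd₁]
        exact Subgroup.mem_centralizer_singleton_iff.mp (hUC (inv_mem u₁.2)))
      have hd₁w : (d₁ : Q) * (y * w * y⁻¹) * (d₁ : Q)⁻¹ = w := by
        refine congrArg Subtype.val (hinj (a₁ := d₁ * ⟨y * w * y⁻¹, hdiag _ hw2'⟩ * d₁⁻¹) (a₂ := ⟨w, hdiag w hw2⟩) ?_)
        rw [map_mul, map_mul, map_inv, hd₁, inv_inv]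
        show (u₁ : Matrix.ProjGenLinGroup (Fin 2) F)⁻¹ * ρ * u₁ = σ
        have h1 : (u₁ : Matrix.ProjGenLinGroup (Fin 2) F) * u₁ = ρ * σ := congrArg Subtype.val hu₁
        have h2 := (hout σ hσC hσU).2 u₁ u₁.2
        have hσi : σ⁻¹ = σ := inv_eq_of_mul_eq_one_left hσ2
        rw [show ρ = ρ * σ * σ by rw [mul_assoc, hσ2, mul_one], ← h1]
        calc (u₁ : Matrix.ProjGenLinGroup (Fin 2) F)⁻¹ * (u₁ * u₁ * σ) * u₁ = u₁ * (σ * u₁ * σ⁻¹) * σ := by group
          _ = σ := by rw [h2]; group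
      rintro z (rfl | rfl)
      · rw [mul_assoc (d₁ : Q) d x, ← hy, ← mul_assoc, ← hd₁t, mul_assoc, mul_assoc, ← hd']
      · rw [mul_assoc (d₁ : Q) d x, ← hy]
        calc z * (d₁ * y) = d₁ * (y * z * y⁻¹) * (d₁ : Q)⁻¹ * (d₁ * y) := by rw [hd₁w]
          _ = d₁ * y * z := by group
  · -- odd elements centralising an inner involution
    intro t htE ht x hxE hxt hxo
    obtain ⟨ht2, ht1⟩ := hinvol t ht
    obtain ⟨hτ2, hτ1⟩ := hτ ⟨t, hdiag t ht2⟩ ht2 ht1
    obtain ⟨U, -, hUcard, -, -, -, -, -, -, hout, -⟩ := Model.invol_cent hodd h3 hτ2 hτ1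
    rw [Model.torusOrder, if_pos ((hinner ⟨t, hdiag t ht2⟩).mpr htE)] at hUcard
    rw [← hqm.1, ← hUcard, Int.natCast_dvd_natCast, ← Subgroup.orderOf_mk x (fr.L_le_diag hxE),
      ← orderOf_injective fr.pgl hinj]
    by_cases hxU : fr.pgl ⟨x, fr.L_le_diag hxE⟩ ∈ U
    · exact Subgroup.orderOf_dvd_natCard U hxU
    · have hxx := (hout _ (Subgroup.mem_centralizer_singleton_iff.mpr ((hcomm_iff ⟨x, fr.L_le_diag hxE⟩
        ⟨t, hdiag t ht2⟩).mp hxt)) hxU).1
      rw [← map_mul] at hxx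
      have h1 : x * x = 1 := congrArg Subtype.val (hinj (hxx.trans (map_one _).symm))
      have h2 : x = 1 := by
        rcases (Nat.dvd_prime Nat.prime_two).mp (orderOf_dvd_of_pow_eq_one (show x ^ 2 = 1 by rw [sq, h1])) with h | h
        · exact orderOf_eq_one_iff.mp h
        · rw [h] at hxo; norm_num at hxo
      subst h2
      rw [show (⟨(1 : Q), fr.L_le_diag hxE⟩ : D) = 1 from rfl, map_one, orderOf_one]
      exact one_dvd _
  · -- the torus of an outer involution
    intro t htE ht w hwE hw hwt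
    obtain ⟨ht2, ht1⟩ := hinvol t ht
    obtain ⟨hw2, hw1⟩ := hinvol w hw
    obtain ⟨hτ2, hτ1⟩ := hτ ⟨t, hdiag t ht2⟩ ht2 ht1
    obtain ⟨hσ2, hσ1⟩ := hτ ⟨w, hdiag w hw2⟩ hw2 hw1
    obtain ⟨U, hUc, hUcard, hσU, hUC, hnot, -, hhalf, -, hout, hreg⟩ := Model.invol_cent hodd h3 hσ2 hσ1
    rw [Model.torusOrder, if_neg (fun h => hwE ((hinner ⟨w, hdiag w hw2⟩).mp h))] at hUcard hhalf
    set σ := fr.pgl ⟨w, hdiag w hw2⟩
    set τ := fr.pgl ⟨t, hdiag t ht2⟩
    let T' : Subgroup D := (U ⊓ (phi (F := F)).range).comap fr.pgl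
    have hTE : ∀ x : D, x ∈ T' → (x : Q) ∈ E := fun x hx => (hinner x).mp hx.2
    have hsq : ∀ ρ ∈ U, ρ * ρ = 1 → ρ = 1 ∨ ρ = σ := by
      intro ρ hρU hρ
      by_cases hρ1 : ρ = 1
      · exact Or.inl hρ1
      refine Or.inr ?_
      haveI := hUc
      haveI := Fintype.ofFinite U
      by_contra hρσ
      have h := IsCyclic.card_pow_eq_one_le (α := U) (n := 2) two_pos
      have hsub : ({1, ⟨σ, hσU⟩, ⟨ρ, hρU⟩} : Finset U) ⊆ Finset.univ.filter fun a : U => a ^ 2 = 1 := by
        intro a ha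
        simp only [Finset.mem_insert, Finset.mem_singleton] at ha
        refine Finset.mem_filter.mpr ⟨Finset.mem_univ _, ?_⟩
        rcases ha with rfl | rfl | rfl
        · exact one_pow 2
        · exact Subtype.ext (by show σ ^ 2 = 1; rw [sq, hσ2])
        · exact Subtype.ext (by show ρ ^ 2 = 1; rw [sq, hρ])
      have hcd := (Finset.card_le_card hsub).trans h
      rw [Finset.card_insert_of_notMem (by
        simp only [Finset.mem_insert, Finset.mem_singleton, not_or]
        exact ⟨fun h => hσ1 (congrArg Subtype.val h).symm, fun h => hρ1 (congrArg Subtype.val h).symm⟩),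
        Finset.card_pair fun h => hρσ (congrArg Subtype.val h).symm] at hcd
      omega
    have hτσ : τ * σ = σ * τ := ((hcomm_iff _ _).mp hwt).symm
    have hτC : τ ∈ Subgroup.centralizer ({σ} : Set _) := Subgroup.mem_centralizer_singleton_iff.mpr hτσ
    have hτU : τ ∉ U := fun h => (hsq τ h hτ2).elim hτ1 fun e1 =>
      hwE (by rw [← show (t : Q) = w from congrArg Subtype.val (hinj e1)]; exact htE)
    refine ⟨T'.map D.subtype, ?_, ?_, ?_, ?_, ?_⟩
    · rintro _ ⟨x, hx, rfl⟩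
      exact hTE x hx
    · have hTcard : Nat.card (T'.map D.subtype) = Nat.card (U.comap (phi (F := F))) := by
        rw [Subgroup.card_map_of_injective D.subtype_injective]
        refine (Nat.card_eq_of_bijective (fun z : U.comap (phi (F := F)) =>
          (⟨(hsurj (phi (z : _))).choose, by
            rw [Subgroup.mem_comap, (hsurj (phi (z : _))).choose_spec]; exact ⟨z.2, ⟨_, rfl⟩⟩⟩ : T')) ⟨?_, ?_⟩).symm
        · intro a b hab
          have h1 := congrArg (fun z : T' => fr.pgl z) hab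
          simp only [(hsurj (phi (a : _))).choose_spec, (hsurj (phi (b : _))).choose_spec] at h1
          exact Subtype.ext (phi_injective h1)
        · rintro ⟨z, hzU, m, hm⟩
          refine ⟨⟨m, by rw [Subgroup.mem_comap, hm]; exact hzU⟩, Subtype.ext (hinj ?_)⟩
          show fr.pgl (hsurj (phi m)).choose = fr.pgl z
          rw [(hsurj (phi m)).choose_spec, hm]
      rw [hTcard, ← hqm.2, ← hhalf]
      push_cast; ring
    · rintro _ ⟨x, hx, rfl⟩
      refine ⟨(hcomm_iff x ⟨w, hdiag w hw2⟩).mpr (Subgroup.mem_centralizer_singleton_iff.mp (hUC hx.1)), ?_⟩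
      refine congrArg Subtype.val (hinj (a₁ := ⟨t, hdiag t ht2⟩ * x * ⟨t, hdiag t ht2⟩⁻¹) (a₂ := x⁻¹) ?_)
      rw [map_mul, map_mul, map_inv, map_inv]
      exact (hout τ hτC hτU).2 _ hx.1
    · intro x hxE hxw hxo
      refine ⟨⟨x, fr.L_le_diag hxE⟩, ⟨?_, (hinner _).mpr hxE⟩, rfl⟩
      by_contra hxU
      have hxx := (hout _ (Subgroup.mem_centralizer_singleton_iff.mpr
        ((hcomm_iff ⟨x, fr.L_le_diag hxE⟩ ⟨w, hdiag w hw2⟩).mp hxw)) hxU).1
      rw [← map_mul] at hxx
      have h1 : x * x = 1 := congrArg Subtype.val (hinj (hxx.trans (map_one _).symm))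
      rcases (Nat.dvd_prime Nat.prime_two).mp (orderOf_dvd_of_pow_eq_one (show x ^ 2 = 1 by rw [sq, h1])) with h | h
      · rw [orderOf_eq_one_iff] at h
        subst h
        exact hxU (by rw [show (⟨(1 : Q), fr.L_le_diag hxE⟩ : D) = 1 from rfl, map_one]; exact one_mem _)
      · rw [h] at hxo; norm_num at hxo
    · intro x hx
      -- an element of the torus that is not an involution
      obtain ⟨d, hdT, hdd⟩ : ∃ d : D, d ∈ T' ∧ fr.pgl d * fr.pgl d ≠ 1 := by
        have hqp := Model.qm_qp_arith (F := F) hodd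
        have hge := Model.four_le_torusOrder (F := F) hodd h3 σ
        rw [Model.torusOrder, if_neg (fun h => hwE ((hinner ⟨w, hdiag w hw2⟩).mp h))] at hge
        by_contra hall
        push Not at hall
        have hle : U.comap (phi (F := F)) ≤ ⊥ := fun z hz => by
          obtain ⟨d, hd⟩ := hsurj (phi z)
          have hdT : d ∈ T' := by rw [Subgroup.mem_comap, hd]; exact ⟨hz, ⟨z, rfl⟩⟩
          have hzz := hall d hdT
          rw [hd] at hzz
          rcases hsq _ hz hzz with e1 | e1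
          · exact phi_injective (e1.trans (map_one _).symm)
          · exfalso
            refine hwE ((hinner ⟨w, hdiag w hw2⟩).mp ?_)
            exact ⟨z, e1⟩
        rw [le_bot_iff] at hle
        rw [hle, Subgroup.card_bot] at hhalf
        omega
      have hxT : x⁻¹ * (d : Q) * x ∈ T'.map D.subtype := by
        have := (Subgroup.mem_normalizer_iff.mp (inv_mem hx) d).mp ⟨d, hdT, rfl⟩
        simpa using this
      obtain ⟨d', hd', hdd'⟩ := hxT
      obtain ⟨hρ2, hρ1⟩ := hτ ⟨x * w * x⁻¹, hdiag _ (hconjsq w x hw2 hw1).1⟩ (hconjsq w x hw2 hw1).1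
        (hconjsq w x hw2 hw1).2
      set ρ := fr.pgl ⟨x * w * x⁻¹, hdiag _ (hconjsq w x hw2 hw1).1⟩
      have hρd : ρ ∈ Subgroup.centralizer ({fr.pgl d} : Set _) := by
        refine Subgroup.mem_centralizer_singleton_iff.mpr
          ((hcomm_iff ⟨x * w * x⁻¹, hdiag _ (hconjsq w x hw2 hw1).1⟩ d).mp ?_)
        show x * w * x⁻¹ * d = d * (x * w * x⁻¹)
        have hc : (d' : Q) * w = w * d' :=
          (hcomm_iff d' ⟨w, hdiag w hw2⟩).mpr (Subgroup.mem_centralizer_singleton_iff.mp (hUC hd'.1))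
        have hd'e : (d' : Q) = x⁻¹ * d * x := hdd'
        rw [hd'e] at hc
        calc x * w * x⁻¹ * d = x * (w * (x⁻¹ * d * x)) * x⁻¹ := by group
          _ = x * (x⁻¹ * d * x * w) * x⁻¹ := by rw [hc]
          _ = d * (x * w * x⁻¹) := by group
      rcases hsq ρ (hreg _ hdT.1 hdd hρd) hρ2 with e1 | e1
      · exact absurd e1 hρ1
      · exact mul_inv_eq_iff_eq_mul.mp (congrArg Subtype.val (hinj e1) : x * w * x⁻¹ = w)

end CfsgLib.GW
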