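import Cfsg.Agent.Lib.GW.Model.Pgl

/-!
Involutions of `PSL₂(q)` and outer involutions of `PGL₂(q)`, seen from `PSL₂(q)`.

* `psl_card_centralizer`, `psl_centralizer_pair`, `psl_centralizer_odd`: centralisers in `PSL₂(q)`;
* `diag_invol_dihedral`: an outer diagonal involution centralises a dihedral group of order `q + e`.
-/

set_option autoImplicit false
set_option linter.unusedSectionVars false

namespace CfsgLib.GW.Model

open Matrix CfsgLib.PSL2Max
open scoped MatrixGroups

variable {F : Type*} [Field F] [Fintype F]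

local notation "SL" => Matrix.SpecialLinearGroup (Fin 2) F
local notation "PSL" => Matrix.ProjectiveSpecialLinearGroup (Fin 2) F
local notation "PGL" => Matrix.ProjGenLinGroup (Fin 2) F
local notation "q" => Fintype.card F

theorem act_injective : Function.Injective (act : PGL → MulAut PSL) := by
  rw [injective_iff_map_eq_one]
  intro g hg
  obtain ⟨G, rfl⟩ := Matrix.ProjGenLinGroup.mk_surjective g
  obtain ⟨-, r, hr⟩ := CfsgLib.PSL2.scalar_of_fix G (RingEquiv.refl F)
    (by rw [CfsgLib.PSL2.fieldAut_refl]; exact hg)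
  exact pgm_one_of_scalar (z := r) (by rw [hr]; ext i j; by_cases h : i = j <;> simp [h])

theorem exists_act (p : ℕ) [Fact p.Prime] [CharP F p] {φ : MulAut PSL} (h : CfsgLib.PSL2.fieldPart p φ = 1) :
    ∃ g : PGL, φ = act g := by
  obtain ⟨G, hG⟩ := CfsgLib.PSL2.exists_of_fieldPart_eq_one p h
  exact ⟨pgm G, hG⟩

theorem qm_cast (hodd : Odd q) {e : ℤ} (he : e = 1 ∨ e = -1) (h4 : (4 : ℤ) ∣ (q : ℤ) - e) :
    (qm F : ℤ) = (q : ℤ) - e ∧ (qp F : ℤ) = (q : ℤ) + e := by
  rw [Nat.odd_iff] at hodd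
  have hq : 0 < q := Fintype.card_pos
  unfold qm qp
  split <;> rcases he with rfl | rfl <;> omega

theorem phi_invol {x : PSL} (hx : x * x = 1) (hx1 : x ≠ 1) : phi x * phi x = 1 ∧ phi x ≠ 1 :=
  ⟨by rw [← map_mul, hx, map_one], fun e => hx1 (phi_injective (e.trans (map_one _).symm))⟩

theorem comap_centralizer (x : PSL) :
    (Subgroup.centralizer ({phi x} : Set PGL)).comap phi = Subgroup.centralizer ({x} : Set PSL) := by
  ext y
  rw [Subgroup.mem_comap, Subgroup.mem_centralizer_singleton_iff, Subgroup.mem_centralizer_singleton_iff,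
    ← map_mul, ← map_mul]
  exact phi_injective.eq_iff

/-- `|C(x)| = q - e` for an involution `x` of `PSL₂(q)`. -/
theorem psl_card_centralizer (hodd : Odd q) (h3 : 3 < q) {e : ℤ} (he : e = 1 ∨ e = -1)
    (h4 : (4 : ℤ) ∣ (q : ℤ) - e) {x : PSL} (hx : x * x = 1) (hx1 : x ≠ 1) :
    (Nat.card (Subgroup.centralizer ({x} : Set PSL)) : ℤ) = (q : ℤ) - e := by
  obtain ⟨h2, h1⟩ := phi_invol hx hx1
  obtain ⟨U, -, -, -, -, -, -, -, hc, -, -⟩ := invol_cent hodd h3 h2 h1
  have hin : phi x ∈ (phi (F := F)).range := ⟨x, rfl⟩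
  rw [← comap_centralizer, hc, torusOrder, if_pos hin, (qm_cast hodd he h4).1]

/-- The centraliser in `PSL₂(q)` of two commuting involutions. -/
theorem psl_centralizer_pair (hodd : Odd q) (h3 : 3 < q) {x y z : PSL} (hx : x * x = 1) (hx1 : x ≠ 1)
    (hy : y * y = 1) (hy1 : y ≠ 1) (hne : y ≠ x) (hxy : y * x = x * y) (hzx : z * x = x * z)
    (hzy : z * y = y * z) : z = 1 ∨ z = x ∨ z = y ∨ z = x * y := by
  obtain ⟨hx2, hx1'⟩ := phi_invol hx hx1
  obtain ⟨hy2, hy1'⟩ := phi_invol hy hy1
  rcases centralizer_pair hodd h3 hx2 hx1' hy2 hy1' (fun e => hne (phi_injective e))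
    (by rw [← map_mul, hxy, map_mul]) (x := phi z) (by rw [← map_mul, hzx, map_mul])
    (by rw [← map_mul, hzy, map_mul]) with e | e | e | e
  · exact Or.inl (phi_injective (e.trans (map_one _).symm))
  · exact Or.inr (Or.inl (phi_injective e))
  · exact Or.inr (Or.inr (Or.inl (phi_injective e)))
  · exact Or.inr (Or.inr (Or.inr (phi_injective (e.trans (map_mul _ _ _).symm))))

/-- The centraliser of an element of odd order centralising an involution lies in a cyclic group. -/
theorem psl_centralizer_odd (hodd : Odd q) (h3 : 3 < q) {x z : PSL} (hx : x * x = 1) (hx1 : x ≠ 1)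
    (hz1 : z ≠ 1) (hzo : Odd (orderOf z)) (hzx : z * x = x * z) :
    IsCyclic (Subgroup.centralizer ({z} : Set PSL)) ∧
      ∀ y ∈ Subgroup.centralizer ({z} : Set PSL), y * y = 1 → y ≠ 1 → y = x := by
  obtain ⟨h2, h1⟩ := phi_invol hx hx1
  obtain ⟨U, hUc, -, hxU, -, -, -, -, -, hout, hreg⟩ := invol_cent hodd h3 h2 h1
  have hzz : z * z ≠ 1 := fun e => hz1 (by
    have hd := orderOf_dvd_of_pow_eq_one (show z ^ 2 = 1 by rw [sq, e])
    rcases (Nat.dvd_prime Nat.prime_two).mp hd with h | h
    · exact orderOf_eq_one_iff.mp h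
    · rw [h] at hzo; norm_num at hzo)
  have hzz' : phi z * phi z ≠ 1 := fun e =>
    hzz (phi_injective (by rw [map_mul, e, map_one]))
  have hzU : phi z ∈ U := by
    by_contra h
    exact hzz' (hout (phi z) (Subgroup.mem_centralizer_singleton_iff.mpr
      (by rw [← map_mul, hzx, map_mul])) h).1
  have hle : ∀ y ∈ Subgroup.centralizer ({z} : Set PSL), phi y ∈ U := fun y hy =>
    hreg _ hzU hzz' (Subgroup.mem_centralizer_singleton_iff.mpr
      (by rw [← map_mul, Subgroup.mem_centralizer_singleton_iff.mp hy, map_mul]))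
  haveI := hUc
  refine ⟨isCyclic_of_injective ((phi.comp (Subgroup.centralizer ({z} : Set PSL)).subtype).codRestrict U
      fun y => hle y y.2) fun a b hab => Subtype.ext (phi_injective (congrArg Subtype.val hab)), ?_⟩
  intro y hy hy2 hy1
  obtain ⟨hy2', hy1'⟩ := phi_invol hy2 hy1
  have ho : ∀ g : PGL, g * g = 1 → g ≠ 1 → orderOf g = 2 := fun g hg hg1 =>
    orderOf_eq_prime (by rw [sq, hg]) hg1
  by_contra hne
  have hcomm : y * x = x * y := by
    haveI : IsMulCommutative U := IsCyclic.isMulCommutative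
    exact phi_injective (by rw [map_mul, map_mul]; exact setLike_mul_comm (hle y hy) hxU)
  haveI : Finite PGL := Finite.of_surjective _ Matrix.ProjGenLinGroup.mk_surjective
  classical
  haveI := Fintype.ofFinite U
  have h := IsCyclic.card_pow_eq_one_le (α := U) (n := 2) two_pos
  have hsub : ({1, ⟨phi x, hxU⟩, ⟨phi y, hle y hy⟩} : Finset U) ⊆ Finset.univ.filter fun a : U => a ^ 2 = 1 := by
    intro a ha
    simp only [Finset.mem_insert, Finset.mem_singleton] at ha
    refine Finset.mem_filter.mpr ⟨Finset.mem_univ _, ?_⟩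
    rcases ha with rfl | rfl | rfl
    · exact one_pow 2
    · exact Subtype.ext (by show phi x ^ 2 = 1; rw [sq, h2])
    · exact Subtype.ext (by show phi y ^ 2 = 1; rw [sq, hy2'])
  have hcd := (Finset.card_le_card hsub).trans h
  rw [Finset.card_insert_of_notMem (by
    simp only [Finset.mem_insert, Finset.mem_singleton, not_or]
    exact ⟨fun e => h1 (congrArg Subtype.val e).symm, fun e => hy1' (congrArg Subtype.val e).symm⟩),
    Finset.card_pair fun e => hne (phi_injective (congrArg Subtype.val e)).symm] at hcd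
  omega

/-- An outer diagonal involution centralises a dihedral group of order `q + e` in `PSL₂(q)`. -/
theorem diag_invol_dihedral (hodd : Odd q) (h3 : 3 < q) (p : ℕ) [Fact p.Prime] [CharP F p] {e : ℤ}
    (he : e = 1 ∨ e = -1) (h4 : (4 : ℤ) ∣ (q : ℤ) - e) {φ : MulAut PSL} (hφ : φ * φ = 1)
    (hf : CfsgLib.PSL2.fieldPart p φ = 1) (hni : φ ∉ (MulAut.conj : PSL →* MulAut PSL).range) :
    ∃ d u : PSL, φ d = d ∧ φ u = u ∧ u * u = 1 ∧ u ≠ 1 ∧ u * d * u⁻¹ = d⁻¹ ∧
      2 * (orderOf d : ℤ) = (q : ℤ) + e := by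
  obtain ⟨g, rfl⟩ := exists_act p hf
  have hg2 : g * g = 1 := act_injective (by rw [map_mul, hφ, map_one])
  have hg1 : g ≠ 1 := fun e' => hni ⟨1, by rw [e', map_one, map_one]⟩
  have hgR : g ∉ (phi (F := F)).range := by
    rintro ⟨x, rfl⟩
    exact hni ⟨x, (act_phi x).symm⟩
  obtain ⟨U, hUc, hUcard, hgU, hUC, -, -, hUhalf, hCP, hout, -⟩ := invol_cent hodd h3 hg2 hg1
  have htor : torusOrder g = qp F := by rw [torusOrder, if_neg hgR]
  haveI := hUc
  haveI : IsCyclic (U.comap (phi (F := F))) :=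
    isCyclic_of_injective ((phi.comp (U.comap phi).subtype).codRestrict U fun y => y.2)
      fun a b hab => Subtype.ext (phi_injective (congrArg Subtype.val hab))
  obtain ⟨d, hd⟩ := IsCyclic.exists_ofOrder_eq_natCard (α := U.comap (phi (F := F)))
  obtain ⟨u, huC, huU⟩ : ∃ u : PSL, phi u ∈ Subgroup.centralizer ({g} : Set PGL) ∧ phi u ∉ U := by
    by_contra hall
    push Not at hall
    have hle : (Subgroup.centralizer ({g} : Set PGL)).comap phi ≤ U.comap phi := fun y hy => hall y hy
    have hc := Subgroup.card_le_of_le hle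
    have := four_le_torusOrder (F := F) hodd h3 g
    omega
  have hfix : ∀ y : PSL, phi y ∈ Subgroup.centralizer ({g} : Set PGL) → act g y = y := fun y hy => by
    refine phi_injective ?_
    rw [phi_act, ← Subgroup.mem_centralizer_singleton_iff.mp hy, mul_inv_cancel_right]
  obtain ⟨huu, hinv⟩ := hout _ huC huU
  refine ⟨d, u, hfix _ (hUC d.2), hfix u huC, phi_injective (by rw [map_mul, huu, map_one]), ?_, ?_, ?_⟩
  · exact fun e' => huU (by rw [e', map_one]; exact one_mem _)
  · exact phi_injective (by rw [map_mul, map_mul, map_inv, map_inv]; exact hinv _ d.2)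
  · rw [Subgroup.orderOf_coe, hd, ← (qm_cast hodd he h4).2, ← htor]
    exact_mod_cast hUhalf

end CfsgLib.GW.Model
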