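import Mathlib

/-!
The centraliser of an involution in the alternating group of degree seven.

* `seven_cent`: the elements of odd order commuting with an involution `a` form a group `{1, c, c⁻¹}` centralised by
  another involution;
* `seven_inverted`, `seven_cube`, `seven_exists`: the consequences used for the Gorenstein–Walter theorem.
-/

set_option autoImplicit false
set_option linter.unusedSectionVars false

namespace CfsgLib.GW.Model

open Equiv

theorem fix_of_commute (x : Perm (Fin 7)) (hx : x * (swap 0 1 * swap 2 3) = swap 0 1 * swap 2 3 * x)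
    (ho : Odd (orderOf x)) (i : Fin 7) (hi : i = 0 ∨ i = 1 ∨ i = 2 ∨ i = 3) : x i = i := by
  set a : Perm (Fin 7) := swap 0 1 * swap 2 3 with ha
  have hax : ∀ j, x (a j) = a (x j) := fun j => Equiv.ext_iff.mp hx j
  have hax2 : ∀ j, (x ^ 2) (a j) = a ((x ^ 2) j) := fun j => by
    simp only [pow_two, Perm.mul_apply]; rw [hax, hax]
  have hsupp : ∀ j : Fin 7, a j ≠ j ↔ (j = 0 ∨ j = 1 ∨ j = 2 ∨ j = 3) := by rw [ha]; decide
  have hin : ∀ j, (j = 0 ∨ j = 1 ∨ j = 2 ∨ j = 3) → (x j = 0 ∨ x j = 1 ∨ x j = 2 ∨ x j = 3) := fun j hj =>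
    (hsupp _).mp fun e => (hsupp j).mpr hj (x.injective ((hax j).trans e))
  -- the square keeps each two-point orbit
  have hblock : ∀ j, (j = 0 ∨ j = 1 ∨ j = 2 ∨ j = 3) → (x ^ 2) j = j ∨ (x ^ 2) j = a j := by
    intro j hj
    have h1 := hin j hj
    have h2 := hin (x j) h1
    have e : (x ^ 2) j = x (x j) := by rw [pow_two, Perm.mul_apply]
    by_cases hc1 : x j = j
    · left; rw [e, hc1, hc1]
    by_cases hc2 : x j = a j
    · left
      rw [e, hc2, hax, hc2]
      rcases hj with rfl | rfl | rfl | rfl <;> rw [ha] <;> decide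
    have h3 : x (a j) = a (x j) := hax j
    -- `x j` lies in the other orbit
    rw [e]
    have key : ∀ u v w z : Fin 7, (u = 0 ∨ u = 1 ∨ u = 2 ∨ u = 3) → (v = 0 ∨ v = 1 ∨ v = 2 ∨ v = 3) →
        (w = 0 ∨ w = 1 ∨ w = 2 ∨ w = 3) → v ≠ u → v ≠ a u → w ≠ v → w ≠ a v → w = u ∨ w = a u := by
      rw [ha]; decide
    refine key j (x j) (x (x j)) 0 hj h1 h2 hc1 hc2 (fun h => hc1 (x.injective h)) fun h => ?_
    have h' : x (x j) = x (a j) := h.trans h3.symm
    exact hc2 (x.injective h')
  have h4 : (x ^ 4) i = i := by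
    rw [show (4 : ℕ) = 2 + 2 from rfl, pow_add, Perm.mul_apply]
    rcases hblock i hi with h | h
    · rw [h, h]
    · rw [h, hax2, h]
      rcases hi with rfl | rfl | rfl | rfl <;> rw [ha] <;> decide
  obtain ⟨k, hk⟩ := exists_pow_eq_self_of_coprime (x := x) (n := 4)
    (show Nat.Coprime 4 (orderOf x) from Nat.Coprime.pow_left 2 (Nat.coprime_two_left.mpr ho))
  rw [← hk]
  exact Perm.pow_apply_eq_self_of_apply_eq_self h4 k

theorem odd_commute_cases (x : Perm (Fin 7)) (hx : x * (swap 0 1 * swap 2 3) = swap 0 1 * swap 2 3 * x)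
    (ho : Odd (orderOf x)) :
    x = 1 ∨ x = swap 4 5 * swap 5 6 ∨ x = (swap 4 5 * swap 5 6)⁻¹ := by
  have h0 := fix_of_commute x hx ho 0 (by decide)
  have h1 := fix_of_commute x hx ho 1 (by decide)
  have h2 := fix_of_commute x hx ho 2 (by decide)
  have h3 := fix_of_commute x hx ho 3 (by decide)
  have himg : ∀ j : Fin 7, 4 ≤ j → 4 ≤ x j := by
    intro j hj
    by_contra hlt
    have hx' : x j = 0 ∨ x j = 1 ∨ x j = 2 ∨ x j = 3 := by omega
    have : j = 0 ∨ j = 1 ∨ j = 2 ∨ j = 3 := by
      rcases hx' with e | e | e | e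
      · exact Or.inl (x.injective (e.trans h0.symm))
      · exact Or.inr (Or.inl (x.injective (e.trans h1.symm)))
      · exact Or.inr (Or.inr (Or.inl (x.injective (e.trans h2.symm))))
      · exact Or.inr (Or.inr (Or.inr (x.injective (e.trans h3.symm))))
    omega
  have hne45 : x 4 ≠ x 5 := fun e => absurd (x.injective e) (by decide)
  have hne46 : x 4 ≠ x 6 := fun e => absurd (x.injective e) (by decide)
  have hne56 : x 5 ≠ x 6 := fun e => absurd (x.injective e) (by decide)
  have hext : ∀ y : Perm (Fin 7), y 0 = 0 → y 1 = 1 → y 2 = 2 → y 3 = 3 → y 4 = x 4 → y 5 = x 5 → y 6 = x 6 →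
      y = x := by
    intro y e0 e1 e2 e3 e4 e5 e6
    refine Equiv.ext fun j => ?_
    fin_cases j
    · exact e0.trans h0.symm
    · exact e1.trans h1.symm
    · exact e2.trans h2.symm
    · exact e3.trans h3.symm
    · exact e4
    · exact e5
    · exact e6
  have hswap : ∀ u v : Fin 7, u ≠ v → x ≠ swap u v := by
    intro u v huv e
    have hd : orderOf x = 2 := by
      rw [e]
      exact orderOf_eq_prime (by rw [sq]; exact swap_mul_self u v) fun e' => huv (by
        have := Equiv.ext_iff.mp e' u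
        rw [swap_apply_left, Perm.one_apply] at this
        exact this.symm)
    rw [hd] at ho
    norm_num at ho
  have c4 := himg 4 (by decide)
  have c5 := himg 5 (by decide)
  have c6 := himg 6 (by decide)
  have hthree : ∀ z : Fin 7, 4 ≤ z → z = 4 ∨ z = 5 ∨ z = 6 := fun z hz => by omega
  rcases hthree _ c4 with a4 | a4 | a4 <;> rcases hthree _ c5 with a5 | a5 | a5 <;>
    rcases hthree _ c6 with a6 | a6 | a6 <;>
      first
        | exact absurd (a4.trans a5.symm) hne45
        | exact absurd (a4.trans a6.symm) hne46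
        | exact absurd (a5.trans a6.symm) hne56
        | exact Or.inl (hext 1 rfl rfl rfl rfl a4.symm a5.symm a6.symm).symm
        | exact Or.inr (Or.inl (hext _ (by decide) (by decide) (by decide) (by decide)
            (a4.symm ▸ by decide) (a5.symm ▸ by decide) (a6.symm ▸ by decide)).symm)
        | exact Or.inr (Or.inr (hext _ (by decide) (by decide) (by decide) (by decide)
            (a4.symm ▸ by decide) (a5.symm ▸ by decide) (a6.symm ▸ by decide)).symm)
        | exact absurd (hext (swap 4 5) (by decide) (by decide) (by decide) (by decide)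
            (a4.symm ▸ by decide) (a5.symm ▸ by decide) (a6.symm ▸ by decide)).symm (hswap 4 5 (by decide))
        | exact absurd (hext (swap 4 6) (by decide) (by decide) (by decide) (by decide)
            (a4.symm ▸ by decide) (a5.symm ▸ by decide) (a6.symm ▸ by decide)).symm (hswap 4 6 (by decide))
        | exact absurd (hext (swap 5 6) (by decide) (by decide) (by decide) (by decide)
            (a4.symm ▸ by decide) (a5.symm ▸ by decide) (a6.symm ▸ by decide)).symm (hswap 5 6 (by decide))

theorem isConj_standard {a : alternatingGroup (Fin 7)} (ha2 : a * a = 1) (ha1 : a ≠ 1) :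
    IsConj (swap (0 : Fin 7) 1 * swap 2 3) (a : Perm (Fin 7)) := by
  rw [Perm.isConj_iff_cycleType_eq]
  have hne : (a : Perm (Fin 7)) ≠ 1 := fun e => ha1 (Subtype.ext e)
  have hsq : (a : Perm (Fin 7)) ^ 2 = 1 := by rw [sq]; exact congrArg Subtype.val ha2
  have ho : orderOf (a : Perm (Fin 7)) = 2 := orderOf_eq_prime hsq hne
  obtain ⟨k, hk⟩ := Perm.cycleType_prime_order (ho.symm ▸ Nat.prime_two)
  rw [ho] at hk
  have hsum : (a : Perm (Fin 7)).cycleType.sum ≤ 7 := by
    rw [Perm.sum_cycleType]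
    exact (Finset.card_le_univ _).trans (by simp)
  have hsign : Perm.sign (a : Perm (Fin 7)) = 1 := Perm.mem_alternatingGroup.mp a.2
  rw [Perm.sign_of_cycleType, hk] at hsign
  rw [hk, Multiset.sum_replicate, smul_eq_mul] at hsum
  simp only [Multiset.sum_replicate, Multiset.card_replicate, smul_eq_mul] at hsign
  have hk2 : k = 1 := by
    rcases (show k = 0 ∨ k = 1 ∨ k = 2 by omega) with rfl | rfl | rfl
    · exact absurd hsign (by decide)
    · rfl
    · exact absurd hsign (by decide)
  subst hk2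
  rw [hk]
  have h : (swap (0 : Fin 7) 1 * swap 2 3).cycleType =
      (swap (0 : Fin 7) 1).cycleType + (swap (2 : Fin 7) 3).cycleType :=
    Perm.Disjoint.cycleType_mul (show Perm.Disjoint (swap (0 : Fin 7) 1) (swap 2 3) by unfold Perm.Disjoint; decide)
  rw [h, Perm.IsCycle.cycleType (Perm.isCycle_swap (by decide)), Perm.IsCycle.cycleType (Perm.isCycle_swap (by decide)),
    Perm.card_support_swap (by decide), Perm.card_support_swap (by decide)]
  rfl

/-- The odd part of the centraliser of an involution of `A₇`. -/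
theorem seven_cent {a : alternatingGroup (Fin 7)} (ha2 : a * a = 1) (ha1 : a ≠ 1) :
    ∃ c b : alternatingGroup (Fin 7), c ^ 3 = 1 ∧ b * b = 1 ∧ b ≠ 1 ∧ b ≠ a ∧ b * a = a * b ∧ b * c = c * b ∧
      ∀ x : alternatingGroup (Fin 7), x * a = a * x → Odd (orderOf x) → x = 1 ∨ x = c ∨ x = c⁻¹ := by
  obtain ⟨π, hπ⟩ := isConj_iff.mp (isConj_standard ha2 ha1)
  set N : Perm (Fin 7) →* MulAut (alternatingGroup (Fin 7)) := MulAut.conjNormal
  let c₀ : alternatingGroup (Fin 7) := ⟨swap 4 5 * swap 5 6, by rw [Perm.mem_alternatingGroup]; decide⟩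
  let b₀ : alternatingGroup (Fin 7) := ⟨swap 0 2 * swap 1 3, by rw [Perm.mem_alternatingGroup]; decide⟩
  let a₀ : alternatingGroup (Fin 7) := ⟨swap 0 1 * swap 2 3, by rw [Perm.mem_alternatingGroup]; decide⟩
  have hNa : N π a₀ = a := Subtype.ext hπ
  refine ⟨N π c₀, N π b₀, ?_, ?_, ?_, ?_, ?_, ?_, ?_⟩
  · rw [← map_pow, show c₀ ^ 3 = 1 from Subtype.ext (by show (swap (4 : Fin 7) 5 * swap 5 6) ^ 3 = 1; decide),
      map_one]
  · rw [← map_mul, show b₀ * b₀ = 1 from Subtype.ext (by
      show swap (0 : Fin 7) 2 * swap 1 3 * (swap 0 2 * swap 1 3) = 1; decide), map_one]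
  · intro e
    exact absurd (congrArg Subtype.val ((N π).injective (e.trans (map_one (N π)).symm)))
      (by show swap (0 : Fin 7) 2 * swap 1 3 ≠ 1; decide)
  · intro e
    exact absurd (congrArg Subtype.val ((N π).injective (e.trans hNa.symm)))
      (by show swap (0 : Fin 7) 2 * swap 1 3 ≠ swap 0 1 * swap 2 3; decide)
  · rw [← hNa, ← map_mul, ← map_mul]
    exact congrArg _ (Subtype.ext (by
      show swap (0 : Fin 7) 2 * swap 1 3 * (swap 0 1 * swap 2 3) = swap 0 1 * swap 2 3 * (swap 0 2 * swap 1 3); decide))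
  · rw [← map_mul, ← map_mul]
    exact congrArg _ (Subtype.ext (by
      show swap (0 : Fin 7) 2 * swap 1 3 * (swap 4 5 * swap 5 6) = swap 4 5 * swap 5 6 * (swap 0 2 * swap 1 3); decide))
  · intro x hxa hxo
    obtain ⟨y, rfl⟩ := (N π).surjective x
    rw [MulEquiv.orderOf_eq, ← Subgroup.orderOf_coe] at hxo
    rw [← hNa, ← map_mul, ← map_mul] at hxa
    rcases odd_commute_cases y (congrArg Subtype.val ((N π).injective hxa)) hxo with e | e | e
    · exact Or.inl (by rw [show y = 1 from Subtype.ext e, map_one])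
    · exact Or.inr (Or.inl (by rw [show y = c₀ from Subtype.ext e]))
    · exact Or.inr (Or.inr (by rw [show y = c₀⁻¹ from Subtype.ext e, map_inv]))

/-- In `A₇`, elements of odd order commuting with an involution have order dividing three. -/
theorem seven_cube {a x : alternatingGroup (Fin 7)} (ha2 : a * a = 1) (ha1 : a ≠ 1) (hx : x * a = a * x)
    (hxo : Odd (orderOf x)) : x ^ 3 = 1 := by
  obtain ⟨c, -, hc, -, -, -, -, -, hall⟩ := seven_cent ha2 ha1
  rcases hall x hx hxo with rfl | rfl | rfl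
  · exact one_pow 3
  · exact hc
  · rw [inv_pow, hc, inv_one]

/-- If `b` inverts a non-trivial element of odd order of `C(a)`, the four group `⟨a, b⟩` has no odd centraliser. -/
theorem seven_inverted {a b x y : alternatingGroup (Fin 7)} (ha2 : a * a = 1) (ha1 : a ≠ 1) (hx : x * a = a * x)
    (hxo : Odd (orderOf x)) (hinv : b * x * b⁻¹ = x⁻¹) (hx1 : x ≠ 1) (hya : y * a = a * y) (hyb : y * b = b * y)
    (hyo : Odd (orderOf y)) : y = 1 := by
  obtain ⟨c, -, hc, -, -, -, -, -, hall⟩ := seven_cent ha2 ha1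
  by_contra hy1
  have hxy : ∃ k : ℕ, x = y ^ k := by
    rcases hall x hx hxo with rfl | rfl | rfl <;> rcases hall y hya hyo with rfl | rfl | rfl
    all_goals first
      | exact absurd rfl hx1
      | exact absurd rfl hy1
      | exact ⟨1, (pow_one _).symm⟩
      | (refine ⟨2, ?_⟩; rw [inv_pow, eq_inv_iff_mul_eq_one, ← pow_succ', hc])
      | (refine ⟨2, ?_⟩; exact inv_eq_of_mul_eq_one_left (by rw [← pow_succ, hc]))
  obtain ⟨k, rfl⟩ := hxy
  have hcomm : b * y ^ k * b⁻¹ = y ^ k := by
    rw [((show Commute y b from hyb).symm.pow_right k).eq, mul_inv_cancel_right]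
  rw [hcomm] at hinv
  have h2 : (y ^ k) ^ 2 = 1 := by
    rw [sq]; nth_rewrite 2 [hinv]; exact mul_inv_cancel _
  rcases (Nat.dvd_prime Nat.prime_two).mp (orderOf_dvd_of_pow_eq_one h2) with h | h
  · exact hx1 (orderOf_eq_one_iff.mp h)
  · rw [h] at hxo; norm_num at hxo

/-- The second involution centralising the odd part of `C(a)`, which is abelian. -/
theorem seven_exists {a : alternatingGroup (Fin 7)} (ha2 : a * a = 1) (ha1 : a ≠ 1) :
    (∃ b : alternatingGroup (Fin 7), b * b = 1 ∧ b ≠ 1 ∧ b ≠ a ∧ b * a = a * b ∧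
      ∀ x : alternatingGroup (Fin 7), x * a = a * x → Odd (orderOf x) → x * b = b * x) ∧
    ∀ x y : alternatingGroup (Fin 7), x * a = a * x → Odd (orderOf x) → y * a = a * y → Odd (orderOf y) →
      x * y = y * x := by
  obtain ⟨c, b, hc, hb2, hb1, hba, hbaC, hbc, hall⟩ := seven_cent ha2 ha1
  refine ⟨⟨b, hb2, hb1, hba, hbaC, fun x hx hxo => ?_⟩, fun x y hx hxo hy hyo => ?_⟩
  · have hC : Commute c b := hbc.symm
    rcases hall x hx hxo with rfl | rfl | rfl
    · rw [one_mul, mul_one]
    · exact hC.eq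
    · exact hC.inv_left.eq
  · rcases hall x hx hxo with rfl | rfl | rfl <;> rcases hall y hy hyo with rfl | rfl | rfl <;>
      simp

end CfsgLib.GW.Model
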