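import Cfsg.Agent.Lib.GW.Model.Diag
import Cfsg.Agent.Lib.SL2Char.Tori

/-!
An element of odd prime-power order commuting with an involution `t`, lying in an `r`-subgroup normalised by
`C(t)`, induces no field automorphism on `PSL₂(q)`.
-/

set_option autoImplicit false
set_option linter.unusedSectionVars false

namespace CfsgLib.GW.Model

open Matrix CfsgLib.PSL2Max
open scoped MatrixGroups

/-- A prime dividing `n^r - ε` but neither of `n ± 1`. -/
theorem exists_primitive {n r : ℕ} (hn : 3 ≤ n) (hr : r.Prime) (hr2 : r ≠ 2) {ε : ℤ} (hε : ε = 1 ∨ ε = -1) :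
    ∃ ℓ : ℕ, ℓ.Prime ∧ ℓ ≠ r ∧ ℓ ≠ 2 ∧ (ℓ : ℤ) ∣ (n : ℤ) ^ r - ε ∧ ¬ ℓ ∣ n - 1 ∧ ¬ ℓ ∣ n + 1 := by
  haveI : Fact r.Prime := ⟨hr⟩
  have hr3 : 3 ≤ r := by have := hr.two_le; omega
  have hrodd : Odd r := hr.odd_of_ne_two hr2
  have hεr : ε ^ r = ε := by rcases hε with rfl | rfl <;> simp [hrodd.neg_one_pow]
  have hεε : ε * ε = 1 := by rcases hε with rfl | rfl <;> norm_num
  set x : ℤ := ε * n with hx
  set S : ℤ := ∑ i ∈ Finset.range r, x ^ i with hS
  have hgeom : S * (x - 1) = x ^ r - 1 := geom_sum_mul x r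
  have hxr : x ^ r - 1 = ε * ((n : ℤ) ^ r - ε) := by
    rw [hx, mul_pow, hεr, mul_sub, hεε]
  have hSdvd : S ∣ (n : ℤ) ^ r - ε := by
    refine ⟨ε * (x - 1), ?_⟩
    rw [show S * (ε * (x - 1)) = ε * (S * (x - 1)) by ring, hgeom, hxr, ← mul_assoc, hεε, one_mul]
  -- parity
  have hS2 : ¬ (2 : ℤ) ∣ S := by
    intro h
    have h' : (S : ZMod 2) = 0 := (ZMod.intCast_zmod_eq_zero_iff_dvd S 2).mpr h
    rw [hS] at h'
    push_cast at h'
    rcases (show (x : ZMod 2) = 0 ∨ (x : ZMod 2) = 1 by generalize (x : ZMod 2) = z; revert z; decide) with e | e <;> rw [e] at h'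
    · rw [Finset.sum_eq_single 0 (fun i _ hi => zero_pow hi) (fun h0 => absurd (Finset.mem_range.mpr hr.pos) h0),
        pow_zero] at h'
      exact one_ne_zero h'
    · simp only [one_pow, Finset.sum_const, Finset.card_range, nsmul_eq_mul, mul_one] at h'
      rw [ZMod.natCast_eq_zero_iff] at h'
      exact (Nat.not_even_iff_odd.mpr hrodd) (even_iff_two_dvd.mpr h')
  -- `r²` does not divide the sum
  have hrr : ¬ ((r : ℤ) * r) ∣ S := by
    intro h
    have h1 : (r : ℤ) ∣ x ^ r - 1 := hgeom ▸ Dvd.dvd.mul_right ((dvd_mul_right _ _).trans h) _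
    have hxm : (r : ℤ) ∣ x - 1 := by
      rw [← ZMod.intCast_zmod_eq_zero_iff_dvd] at h1 ⊢
      push_cast at h1 ⊢
      rwa [ZMod.pow_card] at h1
    obtain ⟨k, hk⟩ := hxm
    have hpow : ∀ i : ℕ, (r : ℤ) * r ∣ x ^ i - (1 + i * (r * k)) := by
      intro i
      induction i with
      | zero => simp
      | succ i ih =>
        obtain ⟨c, hc⟩ := ih
        refine ⟨c * x + i * k * k, ?_⟩
        rw [pow_succ]
        push_cast
        linear_combination x * hc + (1 + (i : ℤ) * (r * k)) * hk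
    have hsum : (r : ℤ) * r ∣ S - (r + (∑ i ∈ Finset.range r, (i : ℤ)) * (r * k)) := by
      rw [hS, Finset.sum_mul, show (r : ℤ) = ∑ i ∈ Finset.range r, (1 : ℤ) by simp, ← Finset.sum_add_distrib,
        ← Finset.sum_sub_distrib]
      refine Finset.dvd_sum fun i _ => ?_
      simpa using hpow i
    have htri : (r : ℤ) ∣ ∑ i ∈ Finset.range r, (i : ℤ) := by
      have h2 := Finset.sum_range_id_mul_two r
      have h3 : r ∣ (∑ i ∈ Finset.range r, i) * 2 := h2 ▸ dvd_mul_right r _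
      have h4 := (Nat.Coprime.dvd_of_dvd_mul_right (Nat.coprime_two_right.mpr hrodd) h3)
      rw [← Nat.cast_sum]
      exact Int.natCast_dvd_natCast.mpr h4
    obtain ⟨m, hm⟩ := htri
    rw [hm] at hsum
    have h5 : (r : ℤ) * r ∣ (r : ℤ) := by
      have h6 := dvd_sub h hsum
      have h7 : (r : ℤ) * r ∣ r + r * m * (r * k) := by simpa using h6
      have h8 : (r : ℤ) * r ∣ r * m * (r * k) := ⟨m * k, by ring⟩
      simpa using dvd_sub h7 h8
    have := Int.le_of_dvd (by exact_mod_cast hr.pos) h5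
    nlinarith
  -- a prime divisor different from `r`
  obtain ⟨ℓ, hℓ, hℓr, hℓS⟩ : ∃ ℓ : ℕ, ℓ.Prime ∧ ℓ ≠ r ∧ (ℓ : ℤ) ∣ S := by
    by_contra hall
    push Not at hall
    have hb : S.natAbs ≤ r := by
      rcases Nat.eq_zero_or_pos S.natAbs with h0 | hpos
      · omega
      have hpr := Nat.eq_prime_pow_of_unique_prime_dvd hpos.ne' (p := r) fun {d} hd hdS => by
        by_contra hne
        exact hall d hd hne (Int.natCast_dvd.mpr hdS)
      rcases Nat.lt_or_ge S.natAbs.primeFactorsList.length 2 with h2 | h2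
      · rw [hpr]
        calc r ^ S.natAbs.primeFactorsList.length ≤ r ^ 1 := Nat.pow_le_pow_right hr.pos (by omega)
          _ = r := pow_one r
      · exfalso
        refine hrr ?_
        have h3 : r ^ 2 ∣ S.natAbs := hpr ▸ pow_dvd_pow r h2
        have h4 : ((r ^ 2 : ℕ) : ℤ) ∣ S := Int.natCast_dvd.mpr h3
        simpa [sq] using h4
    have h1 : (n : ℤ) ^ r - 1 ≤ |S| * (n + 1) := by
      have h2 : |S * (x - 1)| = |(n : ℤ) ^ r - ε| := by
        rw [hgeom, hxr, abs_mul]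
        rcases hε with rfl | rfl <;> simp
      rw [abs_mul] at h2
      have h3 : |x - 1| ≤ (n : ℤ) + 1 := by
        rcases hε with rfl | rfl <;> rw [hx, abs_le] <;> constructor <;> omega
      have h4 : (n : ℤ) ^ r - 1 ≤ |(n : ℤ) ^ r - ε| := le_trans (by rcases hε with rfl | rfl <;> omega) (le_abs_self _)
      calc (n : ℤ) ^ r - 1 ≤ |S| * |x - 1| := h2 ▸ h4
        _ ≤ _ := mul_le_mul_of_nonneg_left h3 (abs_nonneg _)
    have hpow : r * (n * n) ≤ n ^ r := by
      obtain ⟨j, rfl⟩ : ∃ j, r = j + 2 := ⟨r - 2, by omega⟩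
      rw [pow_add, sq]
      refine Nat.mul_le_mul_right _ ?_
      have : ∀ i : ℕ, 1 ≤ i → i + 2 ≤ 3 ^ i := by
        intro i hi
        induction i with
        | zero => omega
        | succ i ih =>
          rcases Nat.eq_zero_or_pos i with rfl | hi'
          · norm_num
          · have := ih hi'
            rw [pow_succ]; omega
      exact (this j (by omega)).trans (Nat.pow_le_pow_left hn j)
    have habs : |S| ≤ (r : ℤ) := by rw [Int.abs_eq_natAbs]; exact_mod_cast hb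
    have hpow' : (r : ℤ) * (n * n) ≤ (n : ℤ) ^ r := by exact_mod_cast hpow
    have hn' : (3 : ℤ) ≤ n := by exact_mod_cast hn
    have hr' : (3 : ℤ) ≤ r := by exact_mod_cast hr3
    have h5 : |S| * ((n : ℤ) + 1) ≤ (r : ℤ) * (n + 1) := mul_le_mul_of_nonneg_right habs (by omega)
    have h6 : 5 ≤ (n : ℤ) * n - n - 1 := by nlinarith
    have h7 := mul_le_mul_of_nonneg_left h6 (show (0 : ℤ) ≤ r by omega)
    nlinarith
  have hℓ2 : ℓ ≠ 2 := fun e => hS2 (by subst e; exact_mod_cast hℓS)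
  haveI : Fact ℓ.Prime := ⟨hℓ⟩
  have hSℓ : (S : ZMod ℓ) = 0 := (ZMod.intCast_zmod_eq_zero_iff_dvd S ℓ).mpr hℓS
  have hne1 : (x : ZMod ℓ) ≠ 1 := fun e => hℓr (by
    rw [hS] at hSℓ
    push_cast at hSℓ
    rw [e] at hSℓ
    simp only [one_pow, Finset.sum_const, Finset.card_range, nsmul_eq_mul, mul_one] at hSℓ
    exact (Nat.prime_dvd_prime_iff_eq hℓ hr).mp ((ZMod.natCast_eq_zero_iff r ℓ).mp hSℓ))
  have hne2 : (x : ZMod ℓ) ≠ -1 := fun e => by
    have h := congrArg (fun z : ℤ => (z : ZMod ℓ)) hgeom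
    push_cast at h
    rw [hSℓ, zero_mul, e, hrodd.neg_one_pow] at h
    have h2 : ((2 : ℕ) : ZMod ℓ) = 0 := by push_cast; linear_combination h
    exact hℓ2 ((Nat.prime_dvd_prime_iff_eq hℓ Nat.prime_two).mp ((ZMod.natCast_eq_zero_iff 2 ℓ).mp h2))
  refine ⟨ℓ, hℓ, hℓr, hℓ2, hℓS.trans hSdvd, fun h => ?_, fun h => ?_⟩
  · have h' : ((n - 1 : ℕ) : ZMod ℓ) = 0 := (ZMod.natCast_eq_zero_iff _ ℓ).mpr h
    rw [Nat.cast_sub (by omega), sub_eq_zero, Nat.cast_one] at h'
    rcases hε with rfl | rfl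
    · exact hne1 (by rw [hx]; push_cast; rw [h', mul_one])
    · exact hne2 (by rw [hx]; push_cast; rw [h', mul_one])
  · have h' : ((n + 1 : ℕ) : ZMod ℓ) = 0 := (ZMod.natCast_eq_zero_iff _ ℓ).mpr h
    push_cast at h'
    rcases hε with rfl | rfl
    · exact hne2 (by rw [hx]; push_cast; linear_combination h')
    · exact hne1 (by rw [hx]; push_cast; linear_combination -h')

variable {F : Type*} [Field F] [Fintype F]

local notation "M2" => Matrix (Fin 2) (Fin 2) F
local notation "SL" => Matrix.SpecialLinearGroup (Fin 2) F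
local notation "PSL" => Matrix.ProjectiveSpecialLinearGroup (Fin 2) F
local notation "PGL" => Matrix.ProjGenLinGroup (Fin 2) F
local notation "q" => Fintype.card F

theorem zmod_two_cases' (z : ZMod 2) : z = 0 ∨ z = 1 := by revert z; decide

/-- An element fixed by an automorphism with field part `e` has an order dividing one of `2(n±1)`, or `p`,
where `n` is the order of the fixed field. -/
theorem orderOf_fixed (p : ℕ) [Fact p.Prime] [CharP F p] (hodd : Odd q) {φ : MulAut PSL} {u : PSL} (hu : φ u = u) :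
    orderOf u ∣ 2 * (Nat.card (fixField (CfsgLib.PSL2.fieldPart p φ)) - 1) ∨
      orderOf u ∣ 2 * (Nat.card (fixField (CfsgLib.PSL2.fieldPart p φ)) + 1) ∨ orderOf u ∣ p ∨ orderOf u ∣ 2 := by
  classical
  have htwo := two_ne_zero_of_odd hodd
  obtain ⟨G, e, hGe⟩ := CfsgLib.PSL2.exists_diag_field p φ
  rw [CfsgLib.PSL2.fieldPart_eq p hGe]
  obtain ⟨A, rfl⟩ := QuotientGroup.mk'_surjective _ u
  by_cases hu1 : (CfsgLib.PSL2.mk A : PSL) = 1
  · exact Or.inr (Or.inr (Or.inr (by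
      rw [show (QuotientGroup.mk' _ A : PSL) = CfsgLib.PSL2.mk A from rfl, hu1, orderOf_one]; exact one_dvd _)))
  change φ (CfsgLib.PSL2.mk A) = CfsgLib.PSL2.mk A at hu
  rw [hGe, MulAut.mul_apply, CfsgLib.PSL2.fieldAut_apply, CfsgLib.PSL2.diagAut_apply, CfsgLib.PSL2.mk_eq_mk] at hu
  have htr : e A.1.trace = A.1.trace ∨ e A.1.trace = -A.1.trace := by
    have hB : (CfsgLib.PSL2.conjSL G (SpecialLinearGroup.map e.toRingHom A)).1.trace = e A.1.trace := by
      rw [CfsgLib.PSL2.coe_conjSL, Matrix.trace_units_conj, Matrix.trace_fin_two, Matrix.trace_fin_two, map_add]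
      rfl
    rcases hu with h | h
    · left
      rw [← hB, ← h]
    · right
      have h' := congrArg Matrix.trace h
      rw [Matrix.trace_neg, hB] at h'
      linear_combination h'
  set s : F := A.1.trace with hs
  have hs2 : e (s ^ 2 - 2) = s ^ 2 - 2 := by
    rw [map_sub, map_pow, map_ofNat]
    rcases htr with h | h <;> rw [h] <;> ring
  by_cases hA4 : s ^ 2 = 4
  · exact Or.inr (Or.inr (Or.inl ((CfsgLib.DicksonFull.orderOf_eq_iff_trace p hu1).mpr hA4).dvd))
  by_cases hA0 : s = 0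
  · refine Or.inr (Or.inr (Or.inr ?_))
    exact orderOf_dvd_of_pow_eq_one (by
      rw [sq]; exact ((CfsgLib.PSL2Klein.invol_iff htwo).mpr hA0).2)
  -- the square is conjugate to a matrix over the fixed field
  haveI : Fintype (fixField e) := Fintype.ofFinite _
  set τ' : fixField e := ⟨s ^ 2 - 2, hs2⟩ with hτ'
  set C0 : Matrix.SpecialLinearGroup (Fin 2) (fixField e) := ⟨!![0, -1; 1, τ'], by simp [Matrix.det_fin_two_of]⟩
    with hC0
  have hC0t : C0.1.trace ^ 2 ≠ 4 := by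
    intro h
    have h' : (C0.1.trace : F) ^ 2 = 4 := by
      rw [← SubmonoidClass.coe_pow, h]
      rfl
    rw [show C0.1.trace = τ' by simp [hC0, Matrix.trace_fin_two]] at h'
    have : s ^ 2 * (s ^ 2 - 4) = 0 := by
      have h'' : (s ^ 2 - 2) ^ 2 = 4 := h'
      linear_combination h''
    rcases mul_eq_zero.mp this with h1 | h1
    · exact hA0 (pow_eq_zero_iff two_ne_zero |>.mp h1)
    · exact hA4 (sub_eq_zero.mp h1)
  obtain ⟨hcyc, hcard⟩ := CfsgLib.SL2Tori.isCyclic_centralizer hC0t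
  set N := Nat.card (Subgroup.centralizer ({C0} : Set (Matrix.SpecialLinearGroup (Fin 2) (fixField e))))
  have hC0N : C0 ^ N = 1 := orderOf_dvd_iff_pow_eq_one.mp
    (Subgroup.orderOf_dvd_natCard _ (Subgroup.mem_centralizer_singleton_iff.mpr rfl))
  have hB2 : (A * A).1.trace = s ^ 2 - 2 := by
    show (A.1 * A.1).trace = _
    rw [SL2Orders.sq_eq, Matrix.trace_sub, Matrix.trace_smul, Matrix.trace_one, ← hs, Fintype.card_fin,
      smul_eq_mul]
    push_cast; ring
  have hBns : ∀ a : F, (A * A).1 ≠ a • (1 : M2) := fun a h => by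
    have hd := (A * A).2
    rw [h, Matrix.det_smul, Matrix.det_one, mul_one, Fintype.card_fin] at hd
    have ht := congrArg Matrix.trace h
    rw [hB2, Matrix.trace_smul, Matrix.trace_one, Fintype.card_fin, smul_eq_mul] at ht
    push_cast at ht
    have : s ^ 2 * (s ^ 2 - 4) = 0 := by linear_combination (s ^ 2 - 2 + a * 2) * ht + 4 * hd
    rcases mul_eq_zero.mp this with h1 | h1
    · exact hA0 (pow_eq_zero_iff two_ne_zero |>.mp h1)
    · exact hA4 (sub_eq_zero.mp h1)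
  obtain ⟨P, hP⟩ := GL2Classes.exists_conj_comp hBns
  rw [hB2, (A * A).2] at hP
  have hcomp : (GL2Classes.comp (s ^ 2 - 2) 1 : M2) = C0.1.map (fixField e).subtype := by
    ext i j
    fin_cases i <;> fin_cases j <;> simp [GL2Classes.comp, hC0, hτ']
  have hBN : (A * A) ^ N = 1 := by
    refine Subtype.ext ?_
    rw [Matrix.SpecialLinearGroup.coe_pow, Matrix.SpecialLinearGroup.coe_one]
    have hBP : (A * A).1 = P.1 * GL2Classes.comp (s ^ 2 - 2) 1 * (P⁻¹).1 := by rw [← hP]; simp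
    rw [hBP, hcomp, show P.1 * C0.1.map (fixField e).subtype * (P⁻¹).1 =
      ((P : M2ˣ) : M2) * C0.1.map (fixField e).subtype * ((P⁻¹ : M2ˣ) : M2) from rfl, Units.conj_pow]
    have hmap : (C0.1.map (fixField e).subtype) ^ N = 1 := by
      rw [← RingHom.mapMatrix_apply, ← map_pow, ← Matrix.SpecialLinearGroup.coe_pow, hC0N,
        Matrix.SpecialLinearGroup.coe_one, map_one]
    rw [hmap, mul_one, ← Units.val_mul, mul_inv_cancel, Units.val_one]
  have hdvd : orderOf (CfsgLib.PSL2.mk A : PSL) ∣ 2 * N := orderOf_dvd_of_pow_eq_one (by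
    rw [← map_pow, pow_mul, sq, hBN, map_one])
  rcases hcard with h | h <;> rw [← Nat.card_eq_fintype_card] at h <;> rw [h] at hdvd
  · exact Or.inl hdvd
  · exact Or.inr (Or.inl hdvd)

theorem card_fixField (e : RingAut F) : Nat.card (fixField e) ^ orderOf e = q := by
  classical
  haveI : Finite (RingAut F) := Finite.of_injective (fun g : RingAut F => (g : F → F)) DFunLike.coe_injective
  haveI : Fintype (Subgroup.zpowers e) := Fintype.ofFinite _
  have hfield : FixedPoints.subfield (Subgroup.zpowers e) F = fixField e := by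
    ext x
    constructor
    · intro h
      exact h ⟨e, Subgroup.mem_zpowers e⟩
    · rintro h ⟨g, hg⟩
      obtain ⟨k, rfl⟩ := Subgroup.mem_zpowers_iff.mp hg
      show (e ^ k) x = x
      have hst : e ∈ MulAction.stabilizer (RingAut F) x := h
      exact Subgroup.zpow_mem _ hst k
  rw [← hfield, ← Nat.card_eq_fintype_card, Module.natCard_eq_pow_finrank
    (K := FixedPoints.subfield (Subgroup.zpowers e) F) (V := F), FixedPoints.finrank_eq_card,
    ← Nat.card_eq_fintype_card, Nat.card_zpowers]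

/-- No automorphism with field part of odd prime order `r` acts on the torus of an involution through an
`r`-group. -/
theorem no_field_model (p : ℕ) [Fact p.Prime] [CharP F p] (hodd : Odd q) (h3 : 3 < q) {τ : PGL} (hτ : τ * τ = 1)
    (hτ1 : τ ≠ 1) {φ : MulAut PSL} {r : ℕ} (hr : r.Prime) (hr2 : r ≠ 2)
    (hord : orderOf (CfsgLib.PSL2.fieldPart p φ) = r) (hcomm : φ * act τ = act τ * φ)
    (hact : ∀ u ∈ (Subgroup.centralizer ({τ} : Set PGL)).comap phi, ∃ k : ℕ, (u * (φ u)⁻¹) ^ r ^ k = 1) : False := by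
  classical
  obtain ⟨U, hUc, hUcard, -, hUC, -, -, hUhalf, -, hout, -⟩ := invol_cent hodd h3 hτ hτ1
  haveI := hUc
  set e := CfsgLib.PSL2.fieldPart p φ
  set n := Nat.card (fixField e) with hn
  have hq : n ^ r = q := hord ▸ card_fixField e
  obtain ⟨ε, hε, hT⟩ : ∃ ε : ℤ, (ε = 1 ∨ ε = -1) ∧ (torusOrder τ : ℤ) = (n : ℤ) ^ r - ε := by
    have hqn : ((n : ℤ) ^ r) = (q : ℤ) := by exact_mod_cast hq
    have hq0 : 0 < q := Fintype.card_pos
    rw [hqn]
    unfold torusOrder qm qp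
    split <;> split
    · exact ⟨1, Or.inl rfl, by push_cast [Nat.cast_sub (Nat.one_le_iff_ne_zero.mpr hq0.ne')]; ring⟩
    · exact ⟨-1, Or.inr rfl, by push_cast; ring⟩
    · exact ⟨-1, Or.inr rfl, by push_cast; ring⟩
    · exact ⟨1, Or.inl rfl, by push_cast [Nat.cast_sub (Nat.one_le_iff_ne_zero.mpr hq0.ne')]; ring⟩
  have hpn : p ∣ n := by
    obtain ⟨j, hp', hj⟩ := FiniteField.card F p
    rw [← hq] at hj
    exact hp'.dvd_of_dvd_pow (hj ▸ dvd_pow_self p j.2.ne')
  have hn3 : 3 ≤ n := by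
    have hp2 := p_ne_two p hodd
    have := (Fact.out : p.Prime).two_le
    have h0 : 0 < n := Nat.card_pos
    have := Nat.le_of_dvd h0 hpn
    omega
  obtain ⟨ℓ, hℓ, hℓr, hℓ2, hℓT, hℓm, hℓp⟩ := exists_primitive hn3 hr hr2 hε
  rw [← hT] at hℓT
  have hℓT' : ℓ ∣ torusOrder τ := Int.natCast_dvd_natCast.mp hℓT
  have hℓU : ℓ ∣ Nat.card (U.comap (phi (F := F))) :=
    ((Nat.coprime_primes hℓ Nat.prime_two).mpr hℓ2).dvd_of_dvd_mul_left (hUhalf ▸ hℓT')
  haveI : Fact ℓ.Prime := ⟨hℓ⟩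
  obtain ⟨⟨u, huU⟩, hu⟩ := exists_prime_orderOf_dvd_card' ℓ hℓU
  rw [Subgroup.orderOf_mk] at hu
  -- the image stays in the torus
  have hφC : ∀ x, phi x ∈ Subgroup.centralizer ({τ} : Set PGL) → phi (φ x) ∈ Subgroup.centralizer ({τ} : Set PGL) := by
    intro x hx
    have h1 : act τ x = x := phi_injective (by
      rw [phi_act, ← Subgroup.mem_centralizer_singleton_iff.mp hx, mul_inv_cancel_right])
    have h2 : act τ (φ x) = φ x := by
      calc act τ (φ x) = (act τ * φ) x := rfl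
        _ = (φ * act τ) x := by rw [hcomm]
        _ = φ x := by rw [MulAut.mul_apply, h1]
    refine Subgroup.mem_centralizer_singleton_iff.mpr ?_
    have h3 := congrArg phi h2
    rw [phi_act] at h3
    exact (mul_inv_eq_iff_eq_mul.mp h3).symm
  have hfix : φ u = u := by
    have hφu : phi (φ u) ∈ U := by
      by_contra hnot
      have h1 := (hout _ (hφC u (hUC huU)) hnot).1
      have h2 : φ u * φ u = 1 := phi_injective (by rw [map_mul, h1, map_one])
      have h3 := orderOf_dvd_of_pow_eq_one (show (φ u) ^ 2 = 1 by rw [sq, h2])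
      rw [MulEquiv.orderOf_eq, hu] at h3
      exact hℓ2 ((Nat.prime_dvd_prime_iff_eq hℓ Nat.prime_two).mp h3)
    obtain ⟨k, hk⟩ := hact u (hUC huU)
    have hc : Commute u (φ u)⁻¹ := by
      haveI : IsMulCommutative U := IsCyclic.isMulCommutative
      exact (Commute.inv_right (phi_injective (by rw [map_mul, map_mul]; exact setLike_mul_comm huU hφu)))
    have hd1 : (u * (φ u)⁻¹) ^ ℓ = 1 := by
      rw [hc.mul_pow, inv_pow, ← map_pow, ← hu, pow_orderOf_eq_one, map_one, inv_one, mul_one]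
    have h4 : u * (φ u)⁻¹ = 1 := orderOf_eq_one_iff.mp (Nat.eq_one_of_dvd_coprimes
      (Nat.Coprime.pow_right k ((Nat.coprime_primes hℓ hr).mpr hℓr)) (orderOf_dvd_of_pow_eq_one hd1)
      (orderOf_dvd_of_pow_eq_one hk))
    exact (mul_inv_eq_one.mp h4).symm
  rcases orderOf_fixed p hodd hfix with h | h | h | h <;> rw [hu] at h
  · exact hℓm (((Nat.coprime_primes hℓ Nat.prime_two).mpr hℓ2).dvd_of_dvd_mul_left h)
  · exact hℓp (((Nat.coprime_primes hℓ Nat.prime_two).mpr hℓ2).dvd_of_dvd_mul_left h)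
  · have hℓp' : ℓ = p := (Nat.prime_dvd_prime_iff_eq hℓ Fact.out).mp h
    have h1 : (ℓ : ℤ) ∣ (n : ℤ) ^ r := dvd_pow (Int.natCast_dvd_natCast.mpr (hℓp' ▸ hpn)) hr.ne_zero
    have h2 : (ℓ : ℤ) ∣ ε := by
      have := dvd_sub h1 (hT ▸ hℓT)
      simpa using this
    have h3 : (ℓ : ℤ) ∣ 1 := by rcases hε with rfl | rfl <;> simpa using h2
    exact hℓ.ne_one (Nat.dvd_one.mp (by exact_mod_cast h3))
  · exact hℓ2 ((Nat.prime_dvd_prime_iff_eq hℓ Nat.prime_two).mp h)

end CfsgLib.GW.Model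

namespace CfsgLib.GW

universe u

variable {H : Type u} [Group H] [Finite H] {L : Subgroup H} (fr : PSLFrame H L)

/-- Elements of an `r`-subgroup centralising `t` and normalised by `C(t)` induce no field automorphism. -/
theorem PSLFrame.no_field (hodd : Odd (Nat.card (Subgroup.centralizer (L : Set H)))) {t : H} (ht : t * t = 1)
    (htW : t ∉ Subgroup.centralizer (L : Set H)) {r : ℕ} (hr : r.Prime) (hr2 : r ≠ 2) {R : Subgroup H}
    (hR : IsPGroup r R) (hRt : R ≤ Subgroup.centralizer ({t} : Set H))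
    (hnorm : Subgroup.centralizer ({t} : Set H) ≤ Subgroup.normalizer (R : Set H)) :
    ∀ y ∈ R, CfsgLib.PSL2.fieldPart fr.p (fr.ψ y) = 1 := by
  intro y hy
  by_contra hne
  set f : MulAut (Matrix.ProjectiveSpecialLinearGroup (Fin 2) fr.F) →* RingAut fr.F :=
    CfsgLib.PSL2.fieldPart fr.p
  -- reduce to field part of order `r`
  obtain ⟨y₁, hy₁, hord⟩ : ∃ z ∈ R, orderOf (f (fr.ψ z)) = r := by
    obtain ⟨m, hm⟩ := hR ⟨y, hy⟩
    have hm' : orderOf (f (fr.ψ y)) ∣ r ^ m := orderOf_dvd_of_pow_eq_one (by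
      rw [← map_pow, ← map_pow, show y ^ r ^ m = 1 from congrArg Subtype.val hm, map_one, map_one])
    obtain ⟨a, -, ha⟩ := (Nat.dvd_prime_pow hr).mp hm'
    rcases a with _ | a
    · exact absurd (orderOf_eq_one_iff.mp (ha.trans (pow_zero r))) hne
    refine ⟨y ^ r ^ a, pow_mem hy _, ?_⟩
    rw [map_pow, map_pow, orderOf_pow_of_dvd (pow_ne_zero _ hr.ne_zero) (ha ▸ pow_dvd_pow r (Nat.le_succ a)), ha,
      pow_succ, Nat.mul_div_cancel_left _ (pow_pos hr.pos _)]
  have htd : t ∈ fr.diag := fr.mem_diag_of_sq ht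
  set τ := fr.pgl ⟨t, htd⟩
  have hτ : τ * τ = 1 := by
    rw [← map_mul, show (⟨t, htd⟩ : fr.diag) * ⟨t, htd⟩ = 1 from Subtype.ext ht, map_one]
  have hτ1 : τ ≠ 1 := fun e => htW ((fr.pgl_eq_one_iff _).mp e)
  have hcomm : fr.ψ y₁ * CfsgLib.PSL2Max.act τ = CfsgLib.PSL2Max.act τ * fr.ψ y₁ := by
    rw [fr.act_pgl, ← map_mul, ← map_mul, Subgroup.mem_centralizer_singleton_iff.mp (hRt hy₁)]
  refine Model.no_field_model fr.p fr.odd fr.three_lt hτ hτ1 hr hr2 hord hcomm fun u hu => ?_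
  obtain ⟨x, hx⟩ : MulAut.conj u ∈ fr.ψ.range := Subgroup.map_le_range fr.ψ L (fr.map_L.symm ▸ ⟨u, rfl⟩)
  have hxt : fr.ψ x * fr.ψ t = fr.ψ t * fr.ψ x := by
    rw [hx, show fr.ψ t = CfsgLib.PSL2Max.act τ from (fr.act_pgl ⟨t, htd⟩).symm, ← CfsgLib.PSL2Max.act_phi, ← map_mul,
      ← map_mul, Subgroup.mem_centralizer_singleton_iff.mp hu]
  obtain ⟨w, hw, hwt⟩ := exists_lift_commute fr.ψ (fr.ker_eq ▸ hodd) ht hxt
  set c := x * w
  have hc : fr.ψ c = MulAut.conj u := by rw [map_mul, MonoidHom.mem_ker.mp hw, mul_one, hx]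
  have hcR : c * y₁ * c⁻¹ * y₁⁻¹ ∈ R :=
    mul_mem ((Subgroup.mem_normalizer_iff.mp (hnorm (Subgroup.mem_centralizer_singleton_iff.mpr hwt)) y₁).mp hy₁)
      (inv_mem hy₁)
  obtain ⟨k, hk⟩ := hR ⟨_, hcR⟩
  refine ⟨k, conj_psl_injective ?_⟩
  rw [map_pow, map_one]
  have h1 : MulAut.conj (u * (fr.ψ y₁ u)⁻¹) = fr.ψ (c * y₁ * c⁻¹ * y₁⁻¹) := by
    rw [map_mul, map_mul, map_mul, map_mul, map_inv, map_inv, map_inv, hc]
    refine MulEquiv.ext fun z => ?_
    simp only [MulAut.mul_apply, MulAut.conj_apply, MulAut.conj_symm_apply, MulAut.inv_def, map_mul, map_inv,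
      MulEquiv.apply_symm_apply, _root_.mul_inv_rev, inv_inv, mul_assoc]
  rw [h1, ← map_pow, show (c * y₁ * c⁻¹ * y₁⁻¹) ^ r ^ k = 1 from congrArg Subtype.val hk, map_one]

end CfsgLib.GW
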