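import Cfsg.Agent.Lib.GW.Model.Psl

/-!
The diagonal part of a `PSLFrame`: the kernel of the field part maps to `PGL₂(q)`.

* `PSLFrame.diag`, `PSLFrame.pgl : diag →* PGL₂`, kernel `C_H(L)`, `L` onto `PSL₂`;
* `mem_diag_of_sq`: every involution lies in `diag`, which has odd index.
-/

set_option autoImplicit false
set_option linter.unusedSectionVars false

namespace CfsgLib.GW

open CfsgLib.PSL2Max
open scoped MatrixGroups

universe u

variable {H : Type u} [Group H] [Finite H] {L : Subgroup H} (fr : PSLFrame H L)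

/-- The kernel of the field part. -/
noncomputable def PSLFrame.diag : Subgroup H := ((CfsgLib.PSL2.fieldPart fr.p).comp fr.ψ).ker

theorem PSLFrame.mem_diag {x : H} : x ∈ fr.diag ↔ CfsgLib.PSL2.fieldPart fr.p (fr.ψ x) = 1 := Iff.rfl

instance PSLFrame.diag_normal : fr.diag.Normal := by unfold PSLFrame.diag; infer_instance

/-- The map of the diagonal part to `PGL₂`. -/
noncomputable def PSLFrame.pgl : fr.diag →* Matrix.ProjGenLinGroup (Fin 2) fr.F where
  toFun x := (Model.exists_act fr.p x.2).choose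
  map_one' := Model.act_injective (by
    rw [map_one, ← (Model.exists_act fr.p (1 : fr.diag).2).choose_spec, OneMemClass.coe_one, map_one])
  map_mul' x y := Model.act_injective (by
    rw [map_mul, ← (Model.exists_act fr.p (x * y).2).choose_spec, ← (Model.exists_act fr.p x.2).choose_spec,
      ← (Model.exists_act fr.p y.2).choose_spec, Subgroup.coe_mul, map_mul])

theorem PSLFrame.act_pgl (x : fr.diag) : act (fr.pgl x) = fr.ψ x :=
  (Model.exists_act fr.p x.2).choose_spec.symm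

theorem PSLFrame.pgl_eq_one_iff (x : fr.diag) :
    fr.pgl x = 1 ↔ (x : H) ∈ Subgroup.centralizer (L : Set H) := by
  rw [← fr.ker_eq, MonoidHom.mem_ker, ← fr.act_pgl]
  exact ⟨fun e => by rw [e, map_one], fun e => Model.act_injective (e.trans (map_one _).symm)⟩

theorem PSLFrame.ker_pgl : fr.pgl.ker = (Subgroup.centralizer (L : Set H)).subgroupOf fr.diag := by
  ext x
  rw [MonoidHom.mem_ker, fr.pgl_eq_one_iff, Subgroup.mem_subgroupOf]

theorem PSLFrame.centralizer_le_diag : Subgroup.centralizer (L : Set H) ≤ fr.diag := fun x hx => by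
  rw [fr.mem_diag, MonoidHom.mem_ker.mp (fr.ker_eq.symm ▸ hx : x ∈ fr.ψ.ker), map_one]

theorem PSLFrame.L_le_diag : L ≤ fr.diag := fun x hx => by
  obtain ⟨m, hm⟩ : fr.ψ x ∈ (MulAut.conj : Matrix.ProjectiveSpecialLinearGroup (Fin 2) fr.F →* _).range :=
    fr.map_L ▸ ⟨x, hx, rfl⟩
  rw [fr.mem_diag, ← hm]
  exact fieldPart_conj fr.p m

theorem PSLFrame.map_L_pgl : (L.subgroupOf fr.diag).map fr.pgl = (phi (F := fr.F)).range := by
  ext g
  constructor
  · rintro ⟨x, hx, rfl⟩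
    obtain ⟨m, hm⟩ : fr.ψ (x : H) ∈ (MulAut.conj : Matrix.ProjectiveSpecialLinearGroup (Fin 2) fr.F →* _).range :=
      fr.map_L ▸ ⟨x, hx, rfl⟩
    exact ⟨m, Model.act_injective (by rw [act_phi, hm, fr.act_pgl])⟩
  · rintro ⟨m, rfl⟩
    obtain ⟨x, hx, hxm⟩ : MulAut.conj m ∈ L.map fr.ψ := fr.map_L ▸ ⟨m, rfl⟩
    exact ⟨⟨x, fr.L_le_diag hx⟩, hx, Model.act_injective (by rw [fr.act_pgl, act_phi, hxm])⟩

/-- `pgl x` is inner exactly for `x ∈ L C_H(L)`. -/
theorem PSLFrame.pgl_mem_range_iff (x : fr.diag) :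
    fr.pgl x ∈ (phi (F := fr.F)).range ↔ ∃ l ∈ L, ∃ w ∈ Subgroup.centralizer (L : Set H), (x : H) = l * w := by
  rw [← fr.map_L_pgl]
  constructor
  · rintro ⟨l, hl, hlx⟩
    refine ⟨l, hl, (l : H)⁻¹ * x, ?_, by rw [mul_inv_cancel_left]⟩
    have := (fr.pgl_eq_one_iff (l⁻¹ * x)).mp (by rw [map_mul, map_inv, hlx, inv_mul_cancel])
    simpa using this
  · rintro ⟨l, hl, w, hw, e⟩
    refine ⟨⟨l, fr.L_le_diag hl⟩, hl, ?_⟩
    have e' : x = (⟨l, fr.L_le_diag hl⟩ : fr.diag) * ⟨w, fr.centralizer_le_diag hw⟩ := Subtype.ext e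
    rw [e', map_mul, (fr.pgl_eq_one_iff ⟨w, fr.centralizer_le_diag hw⟩).mpr hw, mul_one]

theorem PSLFrame.odd_index_diag : Odd fr.diag.index := by
  rw [PSLFrame.diag, Subgroup.index_ker]
  exact fr.field_odd

/-- Involutions, and more generally elements of two-power order, are diagonal. -/
theorem PSLFrame.mem_diag_of_two_pow {x : H} {k : ℕ} (hx : x ^ 2 ^ k = 1) : x ∈ fr.diag := by
  rw [fr.mem_diag]
  haveI : Finite (RingAut fr.F) := Finite.of_injective (fun e : RingAut fr.F => (e : fr.F → fr.F)) DFunLike.coe_injective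
  have h1 : orderOf ((CfsgLib.PSL2.fieldPart fr.p).comp fr.ψ x) ∣ 2 ^ k :=
    orderOf_dvd_of_pow_eq_one (by rw [← map_pow, hx, map_one])
  have h2 : orderOf ((CfsgLib.PSL2.fieldPart fr.p).comp fr.ψ x) ∣
      Nat.card ((CfsgLib.PSL2.fieldPart fr.p).comp fr.ψ).range := by
    have := orderOf_dvd_natCard
      (⟨(CfsgLib.PSL2.fieldPart fr.p).comp fr.ψ x, x, rfl⟩ : ((CfsgLib.PSL2.fieldPart fr.p).comp fr.ψ).range)
    rwa [← Subgroup.orderOf_coe] at this
  exact orderOf_eq_one_iff.mp (Nat.eq_one_of_dvd_coprimes (Nat.Coprime.pow_left k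
    (Nat.coprime_two_left.mpr fr.field_odd)) h1 h2)

theorem PSLFrame.mem_diag_of_sq {x : H} (hx : x * x = 1) : x ∈ fr.diag :=
  fr.mem_diag_of_two_pow (k := 1) (by rw [pow_one, sq, hx])

end CfsgLib.GW
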