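import Cfsg.Agent.Lib.GW.Model.Frame
import Cfsg.Agent.Lib.PSL2Max.PglTorus
import Cfsg.Agent.Lib.DicksonFull.Solvabilizer
import Cfsg.Agent.Lib.OmegaMem

/-!
Involutions of `PGL₂(q)`, `q` odd.

* `invol_cent`: the centraliser of an involution `τ` is dihedral over a cyclic torus `U ∋ τ` of order `torusOrder τ`
  (`q - e` for inner, `q + e` for outer `τ`, `q ≡ e (mod 4)`); it meets `PSL₂` in a subgroup of order `torusOrder τ`;
* `invol_conj`: involutions on the same side of `PSL₂` are conjugate under `PSL₂`;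
* `klein_odd_trivial`: four groups are their own centralisers up to two-elements.
-/

set_option autoImplicit false
set_option linter.unusedSectionVars false

namespace CfsgLib.GW.Model

open Matrix CfsgLib.PSL2Max CfsgLib.DicksonFull
open scoped MatrixGroups

variable {F : Type*} [Field F] [Fintype F]

local notation "M2" => Matrix (Fin 2) (Fin 2) F
local notation "SL" => Matrix.SpecialLinearGroup (Fin 2) F
local notation "PSL" => Matrix.ProjectiveSpecialLinearGroup (Fin 2) F
local notation "PGL" => Matrix.ProjGenLinGroup (Fin 2) F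
local notation "q" => Fintype.card F

variable (F) in
/-- `q - e` where `q ≡ e (mod 4)`. -/
def qm : ℕ := if q % 4 = 1 then q - 1 else q + 1

variable (F) in
/-- `q + e` where `q ≡ e (mod 4)`. -/
def qp : ℕ := if q % 4 = 1 then q + 1 else q - 1

/-- The order of the torus centralised by an involution of `PGL₂`. -/
noncomputable def torusOrder (τ : PGL) : ℕ :=
  open Classical in if τ ∈ (phi (F := F)).range then qm F else qp F

theorem two_ne_zero_of_odd (hodd : Odd q) : (2 : F) ≠ 0 := by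
  refine Ring.two_ne_zero fun hc => ?_
  have := FiniteField.even_card_of_char_two hc
  rw [Nat.odd_iff] at hodd
  omega

theorem p_ne_two (p : ℕ) [Fact p.Prime] [CharP F p] (hodd : Odd q) : p ≠ 2 := by
  rintro rfl
  exact two_ne_zero_of_odd hodd (CharP.cast_eq_zero F 2)

theorem qm_qp_arith (hodd : Odd q) : 4 ∣ qm F ∧ Odd (qp F / 2) ∧ qp F = 2 * (qp F / 2) ∧ qm F + qp F = 2 * q := by
  rw [Nat.odd_iff] at hodd
  have h4 : q % 4 = 1 ∨ q % 4 = 3 := by omega
  have hq : 0 < q := Fintype.card_pos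
  unfold qm qp
  rcases h4 with h | h
  · rw [if_pos h, if_pos h, Nat.odd_iff]
    refine ⟨?_, ?_, ?_, ?_⟩ <;> omega
  · rw [if_neg (by omega), if_neg (by omega), Nat.odd_iff]
    refine ⟨?_, ?_, ?_, ?_⟩ <;> omega

theorem four_le_torusOrder (hodd : Odd q) (h3 : 3 < q) (τ : PGL) : 4 ≤ torusOrder τ := by
  rw [Nat.odd_iff] at hodd
  unfold torusOrder qm qp
  split <;> split <;> omega

theorem det_ne (G : GL (Fin 2) F) : G.1.det ≠ 0 := ((Matrix.isUnit_iff_isUnit_det _).mp G.isUnit).ne_zero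

theorem inner_iff (G : GL (Fin 2) F) : pgm G ∈ (phi (F := F)).range ↔ IsSquare G.1.det :=
  ⟨isSquare_det_of_mem, mem_range_of_isSquare⟩

theorem pgm_eq_of_smul {A B : GL (Fin 2) F} {z : F} (h : A.1 = z • B.1) : pgm A = pgm B := by
  rw [← inv_mul_eq_one, ← map_inv, ← map_mul]
  refine pgm_one_of_scalar (z := z⁻¹) ?_
  have hz : z ≠ 0 := fun e => det_ne A (by rw [h, e, zero_smul, Matrix.det_zero])
  rw [Units.val_mul, show B.1 = z⁻¹ • A.1 by rw [h, smul_smul, inv_mul_cancel₀ hz, one_smul], Matrix.mul_smul,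
    ← Units.val_mul, inv_mul_cancel, Units.val_one]

/-- An involution is the image of a non-scalar matrix of trace zero. -/
theorem exists_rep (hodd : Odd q) {τ : PGL} (h2 : τ * τ = 1) (h1 : τ ≠ 1) :
    ∃ G : GL (Fin 2) F, pgm G = τ ∧ G.1.trace = 0 ∧ (∀ a : F, G.1 ≠ a • (1 : M2)) ∧
      G.1 * G.1 = (-G.1.det) • (1 : M2) := by
  have htwo := two_ne_zero_of_odd hodd
  obtain ⟨G, rfl⟩ := Matrix.ProjGenLinGroup.mk_surjective τ
  have hns : ∀ a : F, G.1 ≠ a • (1 : M2) := fun a e => h1 (pgm_one_of_scalar e)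
  obtain ⟨z, -, hz⟩ := scalar_of_pgm_one (g := G * G) (by rw [map_mul]; exact h2)
  rw [Units.val_mul] at hz
  have e00 := congrFun (congrFun hz 0) 0
  have e01 := congrFun (congrFun hz 0) 1
  have e10 := congrFun (congrFun hz 1) 0
  have e11 := congrFun (congrFun hz 1) 1
  simp [Matrix.mul_apply, Fin.sum_univ_two] at e00 e01 e10 e11
  have htr : G.1.trace = 0 := by
    rw [Matrix.trace_fin_two]
    by_contra ht
    have h01 : G.1 0 1 = 0 := (mul_eq_zero.mp (show G.1 0 1 * (G.1 0 0 + G.1 1 1) = 0 by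
      linear_combination e01)).resolve_right ht
    have h10 : G.1 1 0 = 0 := (mul_eq_zero.mp (show G.1 1 0 * (G.1 0 0 + G.1 1 1) = 0 by
      linear_combination e10)).resolve_right ht
    have h00 : G.1 1 1 = G.1 0 0 := by
      have : (G.1 1 1 - G.1 0 0) * (G.1 0 0 + G.1 1 1) = 0 := by linear_combination e11 - e00
      exact sub_eq_zero.mp ((mul_eq_zero.mp this).resolve_right ht)
    exact hns (G.1 0 0) (by ext i j; fin_cases i <;> fin_cases j <;> simp [h01, h10, h00])
  refine ⟨G, rfl, htr, hns, ?_⟩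
  rw [Matrix.trace_fin_two] at htr
  have h11 : G.1 1 1 = -G.1 0 0 := by linear_combination htr
  ext i j
  fin_cases i <;> fin_cases j <;> simp [Matrix.mul_apply, Fin.sum_univ_two, Matrix.det_fin_two, h11] <;> ring

theorem exists_param (hodd : Odd q) (h3 : 3 < q) {c : F} (hc : c ≠ 0) :
    ∃ x y : F, x * x - c * (y * y) = 1 ∧ y ≠ 0 := by
  classical
  have htwo := two_ne_zero_of_odd hodd
  obtain ⟨s, hs0, hs⟩ : ∃ s : F, s ≠ 0 ∧ c * (s * s) ≠ 1 := by
    by_cases hsq : ∃ r : F, c * (r * r) = 1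
    · obtain ⟨r, hr⟩ := hsq
      obtain ⟨s, -, hs⟩ := Finset.exists_mem_notMem_of_card_lt_card (s := ({0, r, -r} : Finset F))
        (t := Finset.univ) (lt_of_le_of_lt Finset.card_le_three (by rw [Finset.card_univ]; exact h3))
      simp only [Finset.mem_insert, Finset.mem_singleton, not_or] at hs
      refine ⟨s, hs.1, fun e => ?_⟩
      have : (s - r) * (s + r) = 0 := by
        refine (mul_eq_zero.mp (show c * ((s - r) * (s + r)) = 0 by linear_combination e - hr)).resolve_left hc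
      rcases mul_eq_zero.mp this with h | h
      · exact hs.2.1 (sub_eq_zero.mp h)
      · exact hs.2.2 (eq_neg_of_add_eq_zero_left h)
    · push Not at hsq
      exact ⟨1, one_ne_zero, hsq 1⟩
  have hd : 1 - c * (s * s) ≠ 0 := sub_ne_zero.mpr hs.symm
  exact ⟨(1 + c * (s * s)) / (1 - c * (s * s)), 2 * s / (1 - c * (s * s)), by
      rw [div_mul_div_comm, div_mul_div_comm, mul_div_assoc', ← sub_div, div_eq_one_iff_eq (mul_ne_zero hd hd)]
      ring,
    div_ne_zero (mul_ne_zero htwo hs0) hd⟩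

theorem exists_anti_mat {G : GL (Fin 2) F} (h2 : (2 : F) ≠ 0) (htr : G.1.trace = 0) :
    ∃ k : GL (Fin 2) F, k.1 * G.1 = -(G.1 * k.1) := by
  have h11 : G.1 1 1 = -G.1 0 0 := by rw [Matrix.trace_fin_two] at htr; linear_combination htr
  obtain ⟨x, y, z, hlin, hdet⟩ : ∃ x y z : F, 2 * G.1 0 0 * x + G.1 0 1 * z + G.1 1 0 * y = 0 ∧
      -(x * x) - y * z ≠ 0 := by
    by_cases hb : G.1 0 1 = 0
    · by_cases ha : G.1 0 0 = 0
      · exact ⟨1, 0, 0, by rw [ha]; ring, by simp⟩
      · refine ⟨-(G.1 1 0) / (2 * G.1 0 0), 1, 1 - (-(G.1 1 0) / (2 * G.1 0 0)) ^ 2, ?_, ?_⟩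
        · rw [hb]; field_simp; ring
        · rw [show -((-(G.1 1 0) / (2 * G.1 0 0)) * (-(G.1 1 0) / (2 * G.1 0 0))) -
              1 * (1 - (-(G.1 1 0) / (2 * G.1 0 0)) ^ 2) = (-1 : F) by ring]
          exact neg_ne_zero.mpr one_ne_zero
    · by_cases hcc : G.1 1 0 = 0
      · by_cases ha : G.1 0 0 = 0
        · exact ⟨1, 1, 0, by rw [ha, hcc]; ring, by simp⟩
        · refine ⟨-(G.1 0 1) / (2 * G.1 0 0), 1 - (-(G.1 0 1) / (2 * G.1 0 0)) ^ 2, 1, ?_, ?_⟩
          · rw [hcc]; field_simp; ring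
          · rw [show -((-(G.1 0 1) / (2 * G.1 0 0)) * (-(G.1 0 1) / (2 * G.1 0 0))) -
                (1 - (-(G.1 0 1) / (2 * G.1 0 0)) ^ 2) * 1 = (-1 : F) by ring]
            exact neg_ne_zero.mpr one_ne_zero
      · exact ⟨0, G.1 0 1, -G.1 1 0, by ring, by
          rw [show -((0 : F) * 0) - G.1 0 1 * -G.1 1 0 = G.1 0 1 * G.1 1 0 by ring]
          exact mul_ne_zero hb hcc⟩
  refine ⟨GeneralLinearGroup.mkOfDetNeZero !![x, y; z, -x] (by
    rw [Matrix.det_fin_two_of]
    exact fun e => hdet (by linear_combination e)), ?_⟩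
  show !![x, y; z, -x] * G.1 = -(G.1 * !![x, y; z, -x])
  ext i j
  fin_cases i <;> fin_cases j <;> simp [Matrix.mul_apply, Fin.sum_univ_two, h11]
  all_goals first | linear_combination hlin | linear_combination -hlin | ring

/-- The centraliser of an involution of `PGL₂`. -/
theorem invol_cent (hodd : Odd q) (h3 : 3 < q) {τ : PGL} (h2 : τ * τ = 1) (h1 : τ ≠ 1) :
    ∃ U : Subgroup PGL, IsCyclic U ∧ Nat.card U = torusOrder τ ∧ τ ∈ U ∧
      U ≤ Subgroup.centralizer ({τ} : Set PGL) ∧ ¬ U ≤ (phi (F := F)).range ∧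
      Nat.card (Subgroup.centralizer ({τ} : Set PGL)) = 2 * torusOrder τ ∧
      2 * Nat.card (U.comap (phi (F := F))) = torusOrder τ ∧
      Nat.card ((Subgroup.centralizer ({τ} : Set PGL)).comap (phi (F := F))) = torusOrder τ ∧
      (∀ x ∈ Subgroup.centralizer ({τ} : Set PGL), x ∉ U → x * x = 1 ∧ ∀ u ∈ U, x * u * x⁻¹ = u⁻¹) ∧
      ∀ u ∈ U, u * u ≠ 1 → Subgroup.centralizer ({u} : Set PGL) ≤ U := by
  classical
  obtain ⟨p, hp⟩ := CharP.exists F
  haveI := hp
  haveI : Fact p.Prime := ⟨CharP.char_is_prime F p⟩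
  have htwo := two_ne_zero_of_odd hodd
  have hp2 := p_ne_two p hodd
  obtain ⟨G, rfl, htr, hns, hsq⟩ := exists_rep hodd h2 h1
  set c : F := -G.1.det with hc
  have hc0 : c ≠ 0 := neg_ne_zero.mpr (det_ne G)
  obtain ⟨x₀, y₀, hxy, hy0⟩ := exists_param hodd h3 hc0
  have h11 : G.1 1 1 = -G.1 0 0 := by rw [Matrix.trace_fin_two] at htr; linear_combination htr
  have hbdet : (x₀ • (1 : M2) + y₀ • G.1).det = 1 := by
    rw [hc, Matrix.det_fin_two G.1, h11] at hxy
    rw [Matrix.det_fin_two]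
    simp [h11]
    linear_combination hxy
  set b : SL := ⟨x₀ • (1 : M2) + y₀ • G.1, hbdet⟩ with hb
  have hbtr : b.1.trace = 2 * x₀ := by
    rw [Matrix.trace_fin_two]; simp [hb, h11]; ring
  have hbne : b.1.trace ^ 2 ≠ 4 := by
    rw [hbtr]
    intro e
    have : (2 * 2) * (c * (y₀ * y₀)) = 0 := by linear_combination e - 4 * hxy
    exact mul_ne_zero (mul_ne_zero htwo htwo) (mul_ne_zero hc0 (mul_ne_zero hy0 hy0)) this
  have hcb : ∀ M : M2, Commute M b.1 ↔ Commute M G.1 := fun M => by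
    constructor
    · intro h
      have h' : M * (y₀ • G.1) = y₀ • G.1 * M := by
        have h2 : M * (x₀ • (1 : M2) + y₀ • G.1) = (x₀ • (1 : M2) + y₀ • G.1) * M := h
        rw [mul_add, add_mul, ((Commute.one_right M).smul_right x₀).eq] at h2
        exact add_left_cancel h2
      rw [Matrix.mul_smul, Matrix.smul_mul] at h'
      exact smul_right_injective _ hy0 h'
    · intro h
      exact ((Commute.one_right M).smul_right x₀).add_right (h.smul_right y₀)
  set U := ctr b with hU
  have hmemU : ∀ g : PGL, g ∈ U ↔ ∃ K : GL (Fin 2) F, Commute K.1 G.1 ∧ pgm K = g := fun g => by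
    rw [hU, mem_ctr]
    simp only [hcb]
  have hτU : pgm G ∈ U := (hmemU _).mpr ⟨G, Commute.refl _, rfl⟩
  have hUC : U ≤ Subgroup.centralizer ({pgm G} : Set PGL) := fun g hg => by
    obtain ⟨K, hK, rfl⟩ := (hmemU g).mp hg
    rw [Subgroup.mem_centralizer_singleton_iff, ← map_mul, ← map_mul]
    exact congrArg pgm (Units.ext hK.eq)
  have hnot : ¬ U ≤ (phi (F := F)).range := exists_nonsquare_ctr p hp2 hbne
  have hidx := index_range (F := F) p hp2
  have hcard2 : Nat.card U = 2 * Nat.card (cT b) := by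
    rw [card_two hidx hnot]
    rw [hU, ctr_comap]
  have hgcd : Nat.gcd 2 (q - 1) = 2 := Nat.gcd_eq_left (by rw [Nat.odd_iff] at hodd; omega)
  -- whether the torus is split
  have hsplit : (∃ s : F, s * s + b.1.trace * s + 1 = 0) ↔ IsSquare c := by
    rw [hbtr]
    constructor
    · rintro ⟨s, hs⟩
      refine ⟨(s + x₀) / y₀, ?_⟩
      field_simp
      linear_combination -hs - hxy
    · rintro ⟨r, hr⟩
      exact ⟨r * y₀ - x₀, by rw [hr] at hxy; linear_combination -hxy⟩
  have hm1 : IsSquare (-1 : F) ↔ q % 4 = 1 := by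
    rw [FiniteField.isSquare_neg_one_iff]
    rw [Nat.odd_iff] at hodd
    omega
  have hcsq : IsSquare c ↔ ((q % 4 = 1) ↔ pgm G ∈ (phi (F := F)).range) := by
    rw [inner_iff, ← hm1, hc, neg_eq_neg_one_mul,
      CfsgLib.OmegaMem.isSquare_mul_iff htwo (neg_ne_zero.mpr one_ne_zero) (det_ne G)]
  have hUcard : Nat.card U = torusOrder (pgm G) := by
    have hT : Nat.card U = if IsSquare c then q - 1 else q + 1 := by
      rcases CfsgLib.DicksonFull.card_torus hbne with ⟨hno, hn⟩ | ⟨hyes, hn⟩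
      · rw [hgcd] at hn
        rw [if_neg (fun h => hno (hsplit.mpr h)), hcard2, hn]
      · rw [hgcd] at hn
        rw [if_pos (hsplit.mp hyes), hcard2, hn]
    rw [hT, torusOrder, qm, qp]
    by_cases hi : pgm G ∈ (phi (F := F)).range <;> by_cases hq : q % 4 = 1 <;> simp [hcsq, hi, hq]
  -- anti-commuting elements
  obtain ⟨k, hk⟩ := exists_anti_mat htwo htr
  have hGne : G.1 ≠ 0 := fun e => det_ne G (by rw [e, Matrix.det_zero])
  have hkC : pgm k ∈ Subgroup.centralizer ({pgm G} : Set PGL) := by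
    rw [Subgroup.mem_centralizer_singleton_iff, ← map_mul, ← map_mul]
    exact pgm_eq_of_smul (z := -1) (by rw [Units.val_mul, Units.val_mul, hk, neg_one_smul])
  have hanti_out : ∀ X : GL (Fin 2) F, X.1 * G.1 = -(G.1 * X.1) → pgm X ∉ U := by
    intro X hX hmem
    obtain ⟨K, hK, hKX⟩ := (hmemU _).mp hmem
    obtain ⟨z, hz⟩ := Matrix.ProjGenLinGroup.mk_eq_mk_iff.mp hKX
    have hXK : X.1 = (z : F) • K.1 := by
      have h := congrArg Units.val hz
      rw [Units.val_mul] at h
      rw [← h]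
      ext i j
      fin_cases i <;> fin_cases j <;> simp [Matrix.mul_apply, Fin.sum_univ_two, mul_comm]
    have hcomm : Commute X.1 G.1 := hXK ▸ hK.smul_left _
    have h0 : (2 : F) • (G.1 * X.1) = 0 := by
      rw [two_smul]; nth_rewrite 1 [← hcomm.eq]; rw [hX, neg_add_cancel]
    have h0' := (smul_eq_zero.mp h0).resolve_left htwo
    have hd := congrArg Matrix.det h0'
    rw [Matrix.det_mul, Matrix.det_zero] at hd
    exact mul_ne_zero (det_ne G) (det_ne X) hd
  have hcases : ∀ x ∈ Subgroup.centralizer ({pgm G} : Set PGL), x ∈ U ∨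
      ∃ X : GL (Fin 2) F, pgm X = x ∧ X.1 * G.1 = -(G.1 * X.1) := by
    intro x hx
    obtain ⟨X, rfl⟩ := Matrix.ProjGenLinGroup.mk_surjective x
    rw [Subgroup.mem_centralizer_singleton_iff, ← map_mul, ← map_mul] at hx
    obtain ⟨z, hz⟩ := Matrix.ProjGenLinGroup.mk_eq_mk_iff.mp hx
    have he : G.1 * X.1 = (z : F) • (X.1 * G.1) := by
      have h := congrArg Units.val hz
      rw [Units.val_mul, Units.val_mul, Units.val_mul] at h
      rw [← h]
      ext i j
      fin_cases i <;> fin_cases j <;> simp [Matrix.mul_apply, Fin.sum_univ_two] <;> ring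
    have hd := congrArg Matrix.det he
    rw [Matrix.det_mul, Matrix.det_smul, Matrix.det_mul, Fintype.card_fin, mul_comm G.1.det] at hd
    have hz2 : (z : F) * z = 1 := by
      have hne := mul_ne_zero (det_ne X) (det_ne G)
      exact mul_right_cancel₀ hne (by rw [one_mul]; linear_combination -hd)
    rcases mul_self_eq_one_iff.mp hz2 with e | e
    · exact Or.inl ((hmemU _).mpr ⟨X, (by rw [e, one_smul] at he; exact he.symm), rfl⟩)
    · refine Or.inr ⟨X, rfl, ?_⟩
      rw [e, neg_one_smul] at he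
      rw [he, neg_neg]
  have hsq_anti : ∀ X : GL (Fin 2) F, X.1 * G.1 = -(G.1 * X.1) → pgm X * pgm X = 1 := by
    intro X hX
    have hc2 : Commute (X.1 * X.1) G.1 := by
      show X.1 * X.1 * G.1 = G.1 * (X.1 * X.1)
      rw [mul_assoc, hX, mul_neg, ← mul_assoc, hX, neg_mul, neg_neg, mul_assoc]
    obtain ⟨α, β, hαβ⟩ := SL2Centralizer.exists_of_commute hns hc2
    have hβ : β = 0 := by
      have h3' : X.1 * (X.1 * X.1) = X.1 * X.1 * X.1 := (mul_assoc _ _ _).symm
      rw [hαβ, mul_add, add_mul, ((Commute.one_right X.1).smul_right α).eq, Matrix.mul_smul, Matrix.smul_mul] at h3'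
      have h4 := add_left_cancel h3'
      rw [hX, smul_neg, neg_eq_iff_add_eq_zero] at h4
      simp only [Matrix.smul_mul] at h4
      rw [← two_smul F (β • (G.1 * X.1))] at h4
      have h5 := (smul_eq_zero.mp h4).resolve_left htwo
      rcases smul_eq_zero.mp h5 with h | h
      · exact h
      · have hd := congrArg Matrix.det h
        rw [Matrix.det_mul, Matrix.det_zero] at hd
        exact absurd hd (mul_ne_zero (det_ne G) (det_ne X))
    rw [← map_mul]
    exact pgm_one_of_scalar (z := α) (by rw [Units.val_mul, hαβ, hβ, zero_smul, add_zero])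
  have hout : ∀ x ∈ Subgroup.centralizer ({pgm G} : Set PGL), x ∉ U →
      x * x = 1 ∧ ∀ u ∈ U, x * u * x⁻¹ = u⁻¹ := by
    intro x hx hxU
    obtain ⟨X, rfl, hX⟩ := (hcases x hx).resolve_left hxU
    have hxx := hsq_anti X hX
    refine ⟨hxx, fun u hu => ?_⟩
    obtain ⟨K, hK, rfl⟩ := (hmemU u).mp hu
    have hXK := hsq_anti (X * K) (by
      rw [Units.val_mul, mul_assoc, hK.eq, ← mul_assoc, hX, neg_mul, mul_assoc])
    rw [map_mul] at hXK
    rw [inv_eq_of_mul_eq_one_left hxx]
    exact eq_inv_of_mul_eq_one_left (by simpa [mul_assoc] using hXK)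
  have hC2 : Nat.card (Subgroup.centralizer ({pgm G} : Set PGL)) = 2 * Nat.card U := by
    have hi : (U.subgroupOf (Subgroup.centralizer ({pgm G} : Set PGL))).index = 2 := by
      refine Subgroup.index_eq_two_iff.mpr ⟨⟨pgm k, hkC⟩, fun a => ?_⟩
      simp only [Subgroup.mem_subgroupOf, Subgroup.coe_mul]
      rcases hcases a a.2 with ha | ⟨A, hA, hA'⟩
      · refine Or.inr ⟨ha, fun h => hanti_out k hk ?_⟩
        simpa using mul_mem (inv_mem ha) h
      · refine Or.inl ⟨?_, fun h => hanti_out A hA' (hA ▸ h)⟩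
        rw [← hA, ← map_mul]
        refine (hmemU _).mpr ⟨A * k, ?_, rfl⟩
        show (A * k).1 * G.1 = G.1 * (A * k).1
        rw [Units.val_mul, mul_assoc, hk, mul_neg, ← mul_assoc, hA', neg_mul, neg_neg, mul_assoc]
    have := (U.subgroupOf (Subgroup.centralizer ({pgm G} : Set PGL))).card_mul_index
    rw [hi, Nat.card_congr (Subgroup.subgroupOfEquivOfLe hUC).toEquiv] at this
    omega
  have hreg : ∀ u ∈ U, u * u ≠ 1 → Subgroup.centralizer ({u} : Set PGL) ≤ U := by
    intro u hu huu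
    obtain ⟨K, hK, rfl⟩ := (hmemU u).mp hu
    obtain ⟨α, β, hαβ⟩ := SL2Centralizer.exists_of_commute hns hK
    have hβ : β ≠ 0 := fun e => huu (by
      rw [pgm_one_of_scalar (z := α) (by rw [hαβ, e, zero_smul, add_zero]), mul_one])
    have hα : α ≠ 0 := fun e => huu (by
      rw [pgm_eq_of_smul (A := K) (B := G) (z := β) (by rw [hαβ, e, zero_smul, zero_add]), h2])
    intro x hx
    obtain ⟨X, rfl⟩ := Matrix.ProjGenLinGroup.mk_surjective x
    rw [Subgroup.mem_centralizer_singleton_iff, ← map_mul, ← map_mul] at hx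
    obtain ⟨z, hz⟩ := Matrix.ProjGenLinGroup.mk_eq_mk_iff.mp hx
    have he : K.1 * X.1 = (z : F) • (X.1 * K.1) := by
      have h := congrArg Units.val hz
      rw [Units.val_mul, Units.val_mul, Units.val_mul] at h
      rw [← h]
      ext i j
      fin_cases i <;> fin_cases j <;> simp [Matrix.mul_apply, Fin.sum_univ_two] <;> ring
    have hz1 : (z : F) = 1 := by
      have h := congrArg (fun M : M2 => ((X⁻¹).1 * M).trace) he
      rw [Matrix.mul_smul, Matrix.trace_smul, ← mul_assoc, ← mul_assoc, Units.inv_mul,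
        one_mul, Matrix.trace_units_conj', smul_eq_mul] at h
      have ht : K.1.trace = 2 * α := by
        rw [hαβ, Matrix.trace_add, Matrix.trace_smul, Matrix.trace_smul, htr, Matrix.trace_one, Fintype.card_fin,
          smul_zero, add_zero, smul_eq_mul]
        push_cast; ring
      rw [ht] at h
      exact mul_right_cancel₀ (mul_ne_zero htwo hα) (by rw [one_mul]; exact h.symm)
    rw [hz1, one_smul] at he
    refine (hmemU _).mpr ⟨X, ?_, rfl⟩
    have h : Commute X.1 (α • (1 : M2) + β • G.1) := by rw [← hαβ]; exact he.symm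
    have h' : X.1 * (β • G.1) = β • G.1 * X.1 := by
      have h2 : X.1 * (α • (1 : M2) + β • G.1) = (α • (1 : M2) + β • G.1) * X.1 := h
      rw [mul_add, add_mul, ((Commute.one_right X.1).smul_right α).eq] at h2
      exact add_left_cancel h2
    rw [Matrix.mul_smul, Matrix.smul_mul] at h'
    exact smul_right_injective _ hβ h'
  refine ⟨U, ctr_cyclic p hp2 hbne, hUcard, hτU, hUC, hnot, by rw [hC2, hUcard], ?_, ?_, hout, hreg⟩
  · rw [hU, ctr_comap, ← hUcard, hcard2]
  · have h := card_two hidx (fun hle => hnot (hUC.trans hle))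
    rw [hC2, hUcard] at h
    omega

/-- Involutions on the same side of `PSL₂` are conjugate under `PSL₂`. -/
theorem invol_conj (hodd : Odd q) (h3 : 3 < q) {τ σ : PGL} (hτ : τ * τ = 1) (hτ1 : τ ≠ 1) (hσ : σ * σ = 1)
    (hσ1 : σ ≠ 1) (hside : τ ∈ (phi (F := F)).range ↔ σ ∈ (phi (F := F)).range) :
    ∃ x : PSL, phi x * τ * (phi x)⁻¹ = σ := by
  classical
  obtain ⟨p, hp⟩ := CharP.exists F
  haveI := hp
  haveI : Fact p.Prime := ⟨CharP.char_is_prime F p⟩
  have htwo := two_ne_zero_of_odd hodd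
  obtain ⟨U, -, -, -, hUC, hnot, -⟩ := invol_cent hodd h3 hτ hτ1
  obtain ⟨G, rfl, htr, hns, -⟩ := exists_rep hodd hτ hτ1
  obtain ⟨G', rfl, htr', hns', -⟩ := exists_rep hodd hσ hσ1
  rw [inner_iff, inner_iff] at hside
  obtain ⟨r, hr⟩ : IsSquare (G'.1.det * G.1.det) :=
    (CfsgLib.OmegaMem.isSquare_mul_iff htwo (det_ne G') (det_ne G)).mpr hside.symm
  have hr0 : r ≠ 0 := fun e => mul_ne_zero (det_ne G') (det_ne G) (by rw [hr, e, zero_mul])
  set l : F := r / G.1.det with hl
  have hl0 : l ≠ 0 := div_ne_zero hr0 (det_ne G)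
  have hlns : ∀ a : F, l • G.1 ≠ a • (1 : M2) := fun a e => hns (l⁻¹ * a) (by
    rw [← smul_smul, ← e, smul_smul, inv_mul_cancel₀ hl0, one_smul])
  obtain ⟨P, hP⟩ := GL2Classes.exists_conj_comp hlns
  obtain ⟨P', hP'⟩ := GL2Classes.exists_conj_comp hns'
  have hdet : (l • G.1).det = G'.1.det := by
    rw [Matrix.det_smul, Fintype.card_fin, hl]
    have := det_ne G
    field_simp
    linear_combination -hr
  rw [Matrix.trace_smul, htr, smul_zero, hdet] at hP
  rw [htr'] at hP'
  set X : GL (Fin 2) F := P' * P⁻¹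
  have hX : pgm X * pgm G * (pgm X)⁻¹ = pgm G' := by
    rw [← map_inv, ← map_mul, ← map_mul]
    refine pgm_eq_of_smul (z := l⁻¹) ?_
    rw [Units.val_mul, Units.val_mul]
    have e1 : X.1 * (l • G.1) = G'.1 * X.1 := by
      have hPinv : (P⁻¹).1 * (l • G.1) = GL2Classes.comp 0 G'.1.det * (P⁻¹).1 := by
        calc (P⁻¹).1 * (l • G.1) = (P⁻¹).1 * ((l • G.1) * P.1) * (P⁻¹).1 := by simp [Matrix.mul_assoc]
          _ = _ := by rw [hP]; simp [← Matrix.mul_assoc]
      show (P' * P⁻¹ : GL (Fin 2) F).1 * (l • G.1) = G'.1 * (P' * P⁻¹ : GL (Fin 2) F).1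
      rw [Units.val_mul, mul_assoc, hPinv, ← mul_assoc, ← mul_assoc, hP']
    calc X.1 * G.1 * (X⁻¹).1 = l⁻¹ • (X.1 * (l • G.1) * (X⁻¹).1) := by
          rw [Matrix.mul_smul, Matrix.smul_mul, smul_smul, inv_mul_cancel₀ hl0, one_smul]
      _ = _ := by rw [e1, mul_assoc, ← Units.val_mul, mul_inv_cancel, Units.val_one, mul_one]
  by_cases hXi : pgm X ∈ (phi (F := F)).range
  · obtain ⟨x, hx⟩ := hXi
    exact ⟨x, by rw [hx]; exact hX⟩
  · obtain ⟨u, hu, huR⟩ := SetLike.not_le_iff_exists.mp hnot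
    obtain ⟨x, hx⟩ : pgm X * u ∈ (phi (F := F)).range := by
      rw [Subgroup.mul_mem_iff_of_index_two (index_range p (p_ne_two p hodd))]
      exact iff_of_false hXi huR
    refine ⟨x, ?_⟩
    have hc := Subgroup.mem_centralizer_singleton_iff.mp (hUC hu)
    rw [hx, _root_.mul_inv_rev]
    calc pgm X * u * pgm G * (u⁻¹ * (pgm X)⁻¹) = pgm X * (u * pgm G * u⁻¹) * (pgm X)⁻¹ := by group
      _ = _ := by rw [hc, mul_inv_cancel_right, hX]

/-- No element of odd order other than one centralises a four group. -/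
theorem klein_odd_trivial (hodd : Odd q) (h3 : 3 < q) {K : Subgroup PGL} (hK : IsKleinFour K) {x : PGL}
    (hx : ∀ k ∈ K, x * k = k * x) (hxo : Odd (orderOf x)) : x = 1 := by
  haveI := hK
  haveI : Finite K := Nat.finite_of_card_ne_zero (by rw [IsKleinFour.card_four]; norm_num)
  haveI : Nontrivial K := Finite.one_lt_card_iff_nontrivial.mp (by rw [IsKleinFour.card_four]; norm_num)
  obtain ⟨⟨t, htK⟩, ht⟩ := exists_ne (1 : K)
  have ht1 : t ≠ 1 := fun e => ht (Subtype.ext e)
  have ht2 : t * t = 1 := congrArg Subtype.val (IsKleinFour.mul_self (⟨t, htK⟩ : K))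
  obtain ⟨U, hUc, -, -, -, -, -, -, -, hout, -⟩ := invol_cent hodd h3 ht2 ht1
  have hcomm : ∀ k ∈ K, k ∈ Subgroup.centralizer ({t} : Set PGL) := fun k hk => by
    haveI := IsKleinFour.isMulCommutative (G := K)
    exact Subgroup.mem_centralizer_singleton_iff.mpr (setLike_mul_comm hk htK)
  have h2of : x * x = 1 → x = 1 := fun e => by
    have hd := orderOf_dvd_of_pow_eq_one (show x ^ 2 = 1 by rw [sq, e])
    rcases (Nat.dvd_prime Nat.prime_two).mp hd with h | h
    · exact orderOf_eq_one_iff.mp h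
    · rw [h] at hxo; norm_num at hxo
  by_cases hxU : x ∈ U
  · obtain ⟨s, hs, hsU⟩ : ∃ s ∈ K, s ∉ U := by
      by_contra h
      push Not at h
      haveI := hUc
      exact IsKleinFour.not_isCyclic (G := K)
        (isCyclic_of_injective (Subgroup.inclusion h) (Subgroup.inclusion_injective h))
    have h := (hout s (hcomm s hs) hsU).2 x hxU
    rw [← hx s hs, mul_inv_cancel_right] at h
    exact h2of (by nth_rewrite 2 [h]; exact mul_inv_cancel x)
  · exact h2of (hout x (Subgroup.mem_centralizer_singleton_iff.mpr (hx t htK)) hxU).1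

/-- The centraliser of two commuting involutions is the four group they generate. -/
theorem centralizer_pair (hodd : Odd q) (h3 : 3 < q) {τ σ x : PGL} (hτ : τ * τ = 1) (hτ1 : τ ≠ 1)
    (hσ : σ * σ = 1) (hσ1 : σ ≠ 1) (hne : σ ≠ τ) (hτσ : σ * τ = τ * σ) (hxτ : x * τ = τ * x)
    (hxσ : x * σ = σ * x) : x = 1 ∨ x = τ ∨ x = σ ∨ x = τ * σ := by
  obtain ⟨U, hUc, hUcard, hτU, -, -, -, -, -, hout, -⟩ := invol_cent hodd h3 hτ hτ1
  classical
  haveI := hUc
  haveI : Finite PGL := Finite.of_surjective _ Matrix.ProjGenLinGroup.mk_surjective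
  have hsq : ∀ u ∈ U, u * u = 1 → u = 1 ∨ u = τ := by
    intro u hu huu
    by_cases hu1 : u = 1
    · exact Or.inl hu1
    refine Or.inr ?_
    haveI : Fintype U := Fintype.ofFinite _
    by_contra hne'
    have h := IsCyclic.card_pow_eq_one_le (α := U) (n := 2) two_pos
    have hsub : ({1, ⟨τ, hτU⟩, ⟨u, hu⟩} : Finset U) ⊆ Finset.univ.filter fun a : U => a ^ 2 = 1 := by
      intro a ha
      simp only [Finset.mem_insert, Finset.mem_singleton] at ha
      refine Finset.mem_filter.mpr ⟨Finset.mem_univ _, ?_⟩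
      rcases ha with rfl | rfl | rfl
      · exact one_pow 2
      · exact Subtype.ext (by show τ ^ 2 = 1; rw [sq, hτ])
      · exact Subtype.ext (by show u ^ 2 = 1; rw [sq, huu])
    have hcd := (Finset.card_le_card hsub).trans h
    rw [Finset.card_insert_of_notMem (by
      simp only [Finset.mem_insert, Finset.mem_singleton, not_or]
      exact ⟨fun e => hτ1 (congrArg Subtype.val e).symm, fun e => hu1 (congrArg Subtype.val e).symm⟩),
      Finset.card_pair fun e => hne' (congrArg Subtype.val e).symm] at hcd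
    omega
  have hσC : σ ∈ Subgroup.centralizer ({τ} : Set PGL) := Subgroup.mem_centralizer_singleton_iff.mpr hτσ
  have hσU : σ ∉ U := fun h => (hsq σ h hσ).elim hσ1 hne
  have key : ∀ u ∈ U, u * σ = σ * u → u = 1 ∨ u = τ := fun u hu hc => by
    refine hsq u hu ?_
    have h := (hout σ hσC hσU).2 u hu
    rw [← hc, mul_inv_cancel_right] at h
    nth_rewrite 2 [h]
    exact mul_inv_cancel u
  by_cases hxU : x ∈ U
  · rcases key x hxU hxσ with e | e
    · exact Or.inl e
    · exact Or.inr (Or.inl e)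
  · have hxC : x ∈ Subgroup.centralizer ({τ} : Set PGL) := Subgroup.mem_centralizer_singleton_iff.mpr hxτ
    have hxx := (hout x hxC hxU).1
    have hprod : x * σ ∈ U := by
      by_contra hU'
      -- three outside elements would invert the torus
      obtain ⟨v, hv, hvv⟩ : ∃ v ∈ U, v * v ≠ 1 := by
        by_contra hall
        push Not at hall
        have hle : U ≤ Subgroup.zpowers τ := fun u hu => by
          rcases hsq u hu (hall u hu) with rfl | rfl
          · exact one_mem _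
          · exact Subgroup.mem_zpowers _
        have h1 := Subgroup.card_le_of_le hle
        have : orderOf τ = 2 := orderOf_eq_prime (by rw [sq, hτ]) hτ1
        rw [Nat.card_zpowers, this, hUcard] at h1
        have := four_le_torusOrder (F := F) hodd h3 τ
        omega
      have e1 := (hout x hxC hxU).2 v hv
      have e2 := (hout σ hσC hσU).2 v hv
      have e3 := (hout (x * σ) (mul_mem hxC hσC) hU').2 v hv
      rw [_root_.mul_inv_rev, show x * σ * v * (σ⁻¹ * x⁻¹) = x * (σ * v * σ⁻¹) * x⁻¹ by group, e2] at e3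
      rw [show x * v⁻¹ * x⁻¹ = (x * v * x⁻¹)⁻¹ by group, e1, inv_inv] at e3
      exact hvv (by nth_rewrite 2 [e3]; exact mul_inv_cancel v)
    have hcomm : x * σ * σ = σ * (x * σ) := by rw [← mul_assoc σ x σ, ← hxσ]
    rcases key _ hprod hcomm with e | e
    · refine Or.inr (Or.inr (Or.inl ?_))
      calc x = x * σ * σ := by rw [mul_assoc, hσ, mul_one]
        _ = σ := by rw [e, one_mul]
    · refine Or.inr (Or.inr (Or.inr ?_))
      calc x = x * σ * σ := by rw [mul_assoc, hσ, mul_one]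
        _ = τ * σ := by rw [e]

end CfsgLib.GW.Model
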